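import Mathlib.CategoryTheory.Triangulated.Pretriangulated
import Mathlib.Data.Nat.Prime.Basic
import Mathlib.Data.Nat.Factors
import Mathlib.Data.Nat.Factorization.Induction
import Mathlib.RingTheory.Coprime.Lemmas

/-!
# OverZ, abstract form in a pretriangulated category

`CohF T`: a cohomological functor with values in abelian groups, on elements. `Ctx T`: a family `F l` of cohomological
functors (`H^i(- ⊗ L)`) and `Fd q l` (`H^i(- ⊗ (L // q))`), the bounded objects, the `S`-local objects.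
`overZp`, `overZ0`: hits over all `ℤ_(q)` give hits over `ℤ`.
-/

set_option autoImplicit false

universe w v u t

open CategoryTheory CategoryTheory.Limits CategoryTheory.Pretriangulated

namespace Groth.Agent.ResProp.EF.K353

variable (T : Type v) [Category.{w} T] [Preadditive T] [HasZeroObject T] [HasShift T ℤ]
  [∀ n : ℤ, (shiftFunctor T n).Additive] [Pretriangulated T]

variable {T} in
/-- distinguished -/
abbrev Dist {A B C : T} (f : A ⟶ B) (g : B ⟶ C) (h : C ⟶ A⟦(1 : ℤ)⟧) : Prop := Triangle.mk f g h ∈ distTriang T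

/-- a cohomological functor to abelian groups, on elements -/
structure CohF where
  M : ℤ → T → Type u
  [grp : ∀ i X, AddCommGroup (M i X)]
  map : ∀ (i : ℤ) {X Y : T}, (X ⟶ Y) → (M i X →+ M i Y)
  map_id : ∀ (i : ℤ) (X : T) (x : M i X), map i (𝟙 X) x = x
  map_comp : ∀ (i : ℤ) {X Y Z : T} (f : X ⟶ Y) (g : Y ⟶ Z) (x : M i X), map i (f ≫ g) x = map i g (map i f x)
  δ : ∀ {A B C : T} {f : A ⟶ B} {g : B ⟶ C} {h : C ⟶ A⟦(1 : ℤ)⟧} (_ : Dist f g h) (i j : ℤ) (_ : i + 1 = j),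
    M i C →+ M j A
  nat : ∀ {A B C : T} {f : A ⟶ B} {g : B ⟶ C} {h : C ⟶ A⟦(1 : ℤ)⟧} (H : Dist f g h)
    {A' B' C' : T} {f' : A' ⟶ B'} {g' : B' ⟶ C'} {h' : C' ⟶ A'⟦(1 : ℤ)⟧} (H' : Dist f' g' h')
    (a : A ⟶ A') (b : B ⟶ B') (c : C ⟶ C') (_ : f ≫ b = a ≫ f') (_ : g ≫ c = b ≫ g') (_ : h ≫ a⟦1⟧' = c ≫ h')
    (i j : ℤ) (hij : i + 1 = j) (x : M i C), δ H' i j hij (map i c x) = map j a (δ H i j hij x)
  d31 : ∀ {A B C : T} {f : A ⟶ B} {g : B ⟶ C} {h : C ⟶ A⟦(1 : ℤ)⟧} (H : Dist f g h) (i j : ℤ) (hij : i + 1 = j)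
    (x : M i C), map j f (δ H i j hij x) = 0
  d12 : ∀ {A B C : T} {f : A ⟶ B} {g : B ⟶ C} {h : C ⟶ A⟦(1 : ℤ)⟧} (_ : Dist f g h) (i : ℤ) (x : M i A),
    map i g (map i f x) = 0
  d23 : ∀ {A B C : T} {f : A ⟶ B} {g : B ⟶ C} {h : C ⟶ A⟦(1 : ℤ)⟧} (H : Dist f g h) (i j : ℤ) (hij : i + 1 = j)
    (x : M i B), δ H i j hij (map i g x) = 0
  ex2 : ∀ {A B C : T} {f : A ⟶ B} {g : B ⟶ C} {h : C ⟶ A⟦(1 : ℤ)⟧} (_ : Dist f g h) (i : ℤ) (x : M i B),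
    map i g x = 0 → ∃ y, map i f y = x
  ex3 : ∀ {A B C : T} {f : A ⟶ B} {g : B ⟶ C} {h : C ⟶ A⟦(1 : ℤ)⟧} (H : Dist f g h) (i j : ℤ) (hij : i + 1 = j)
    (x : M i C), δ H i j hij x = 0 → ∃ y, map i g y = x
  ex1 : ∀ {A B C : T} {f : A ⟶ B} {g : B ⟶ C} {h : C ⟶ A⟦(1 : ℤ)⟧} (H : Dist f g h) (i j : ℤ) (hij : i + 1 = j)
    (x : M j A), map j f x = 0 → ∃ y, δ H i j hij y = x

attribute [instance] CohF.grp

variable {T}

namespace CohF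

variable (F : CohF.{w, v, u} T)

/-- all elements of degree `i` are zero -/
def Z (i : ℤ) (X : T) : Prop := ∀ x : F.M i X, x = 0

/-- all elements of degree `i` are killed by an element of `S` -/
def Tor (S : Set ℕ) (i : ℤ) (X : T) : Prop := ∀ x : F.M i X, ∃ n ∈ S, (n : ℕ) • x = 0

variable {F} {A B C : T} {f : A ⟶ B} {g : B ⟶ C} {h : C ⟶ A⟦(1 : ℤ)⟧} (H : Dist f g h)

include H

lemma z₁ {i j : ℤ} (hij : i + 1 = j) (h₃ : F.Z i C) (h₂ : F.Z j B) : F.Z j A := by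
  intro x
  obtain ⟨y, rfl⟩ := F.ex1 H i j hij x (h₂ _)
  rw [h₃ y, map_zero]

lemma z₂ {i : ℤ} (h₁ : F.Z i A) (h₃ : F.Z i C) : F.Z i B := by
  intro x
  obtain ⟨y, rfl⟩ := F.ex2 H i x (h₃ _)
  rw [h₁ y, map_zero]

lemma z₃ {i j : ℤ} (hij : i + 1 = j) (h₂ : F.Z i B) (h₁ : F.Z j A) : F.Z i C := by
  intro x
  obtain ⟨y, rfl⟩ := F.ex3 H i j hij x (h₁ _)
  rw [h₂ y, map_zero]

lemma tor₁ {S : Set ℕ} (hS : ∀ m ∈ S, ∀ n ∈ S, m * n ∈ S) {i j : ℤ} (hij : i + 1 = j) (h₃ : F.Tor S i C)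
    (h₂ : F.Tor S j B) : F.Tor S j A := by
  intro x
  obtain ⟨n, hn, h0⟩ := h₂ (F.map j f x)
  rw [← map_nsmul] at h0
  obtain ⟨y, hy⟩ := F.ex1 H i j hij _ h0
  obtain ⟨m, hm, h1⟩ := h₃ y
  refine ⟨m * n, hS m hm n hn, ?_⟩
  rw [mul_nsmul', ← hy, ← map_nsmul, h1, map_zero]

/-- the cone of a localization is torsion -/
lemma tor₃ {S : Set ℕ} (hS : ∀ m ∈ S, ∀ n ∈ S, m * n ∈ S) {i j : ℤ} (hij : i + 1 = j)
    (hk : ∀ x : F.M j A, F.map j f x = 0 → ∃ n ∈ S, (n : ℕ) • x = 0)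
    (hi : ∀ y : F.M i B, ∃ n ∈ S, ∃ x, F.map i f x = (n : ℕ) • y) : F.Tor S i C := by
  intro e
  obtain ⟨n, hn, h0⟩ := hk (F.δ H i j hij e) (F.d31 H i j hij e)
  rw [← map_nsmul] at h0
  obtain ⟨y, hy⟩ := F.ex3 H i j hij _ h0
  obtain ⟨m, hm, x, hx⟩ := hi y
  refine ⟨m * n, hS m hm n hn, ?_⟩
  rw [mul_nsmul', ← hy, ← map_nsmul, ← hx, F.d12 H]

end CohF

/-- if `m` and `q` are coprime, `q` is bijective on elements killed by `m` -/
lemma coprime_kill {G : Type*} [AddCommGroup G] {m q : ℕ} (h : m.Coprime q) {x : G} (hx : m • x = 0) :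
    (∃ y : G, q • y = x) ∧ (q • x = 0 → x = 0) := by
  obtain ⟨u, v, huv⟩ : ∃ u v : ℤ, u * m + v * q = 1 := by
    have := Nat.isCoprime_iff_coprime.2 h
    exact this
  have hx' : (m : ℤ) • x = 0 := by rw [natCast_zsmul]; exact hx
  have key : x = v • ((q : ℤ) • x) := by
    conv_lhs => rw [← one_zsmul x, ← huv, add_zsmul, mul_zsmul, mul_zsmul, hx', zsmul_zero, zero_add]
  constructor
  · refine ⟨v • x, ?_⟩
    rw [← natCast_zsmul, smul_comm, ← key]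
  · intro h0
    rw [← natCast_zsmul] at h0
    rw [key, h0, zsmul_zero]

set_option linter.checkUnivs false in
variable (T) in
/-- the context of OverZ -/
structure Ctx where
  Λ : Type t
  F : Λ → CohF.{w, v, u} T
  /-- the functors `- ⊗ (L // q)` -/
  Fd : ℕ → Λ → CohF.{w, v, u} T
  div1 : ∀ (q : ℕ) (l : Λ) (X : T) (i j : ℤ), i + 1 = j → (Fd q l).Z i X →
    ∀ x : (F l).M j X, q • x = 0 → x = 0
  div2 : ∀ (q : ℕ) (l : Λ) (X : T) (i j : ℤ), i + 1 = j → (∀ x : (F l).M i X, ∃ y, q • y = x) →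
    (∀ x : (F l).M j X, q • x = 0 → x = 0) → (Fd q l).Z i X
  /-- bounded objects -/
  Bd : T → Prop
  cone : ∀ {A B : T} (f : A ⟶ B), Bd A → Bd B → ∃ (E : T) (g : B ⟶ E) (h : E ⟶ A⟦(1 : ℤ)⟧), Dist f g h ∧ Bd E
  fib : ∀ {B E : T} (g : B ⟶ E), Bd B → Bd E → ∃ (A : T) (f : A ⟶ B) (h : E ⟶ A⟦(1 : ℤ)⟧), Dist f g h ∧ Bd A
  /-- objects on which the numbers in `S` are invertible -/
  SL : Set ℕ → T → Prop
  sl : ∀ {S : Set ℕ} {X : T}, SL S X → ∀ n ∈ S, ∀ (l : Λ) (i : ℤ),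
    Function.Bijective (fun x : (F l).M i X => n • x)

namespace Ctx

/-- the numbers prime to `q` -/
abbrev Sq (q : ℕ) : Set ℕ := {n | n.Coprime q}

/-- the powers of `p` -/
abbrev Sp (p : ℕ) : Set ℕ := {n | ∃ k, n = p ^ k}

lemma mul_Sq {q : ℕ} : ∀ m ∈ Sq q, ∀ n ∈ Sq q, m * n ∈ Sq q := fun _ hm _ hn => Nat.Coprime.mul_left hm hn

lemma mul_Sp {p : ℕ} : ∀ m ∈ Sp p, ∀ n ∈ Sp p, m * n ∈ Sp p := by
  rintro _ ⟨k, rfl⟩ _ ⟨l, rfl⟩
  exact ⟨k + l, (pow_add p k l).symm⟩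

lemma ne_zero_of_mem_Sq {q : ℕ} (hq : q.Prime) {n : ℕ} (hn : n ∈ Sq q) : n ≠ 0 := by
  rintro rfl
  have : Nat.Coprime 0 q := hn
  rw [Nat.coprime_zero_left] at this
  exact hq.one_lt.ne' this

variable (X : Ctx.{w, v, u, t} T)

/-- Tor-amplitude `≥ a` -/
def TGE (a : ℤ) (K : T) : Prop := ∀ (l : X.Λ), ∀ i < a, (X.F l).Z i K

/-- Tor-amplitude of `K // q` is `≥ a` -/
def TQ (q : ℕ) (a : ℤ) (K : T) : Prop := ∀ (l : X.Λ), ∀ i < a, (X.Fd q l).Z i K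

/-- all elements of degree `< a` are torsion -/
def TT (a : ℤ) (K : T) : Prop := ∀ (l : X.Λ), ∀ i < a, (X.F l).Tor {n | n ≠ 0} i K

/-- localization -/
def IsL (S : Set ℕ) {K K' : T} (f : K ⟶ K') : Prop := X.SL S K' ∧ ∀ (l : X.Λ) (i : ℤ),
  (∀ x : (X.F l).M i K, (X.F l).map i f x = 0 → ∃ n ∈ S, (n : ℕ) • x = 0) ∧
  (∀ y : (X.F l).M i K', ∃ n ∈ S, ∃ x, (X.F l).map i f x = (n : ℕ) • y)

/-- localizations of bounded objects exist -/
def HasL (S : Set ℕ) : Prop := ∀ K : T, X.Bd K → ∃ (K' : T) (f : K ⟶ K'), X.Bd K' ∧ X.IsL S f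

variable {X}

lemma TGE.tq {a : ℤ} {K : T} (h : X.TGE a K) (q : ℕ) : X.TQ q (a - 1) K := fun l i hi =>
  X.div2 q l K i (i + 1) rfl (fun x => ⟨0, by rw [smul_zero, h l i (by omega) x]⟩)
    (fun x _ => h l (i + 1) (by omega) x)

lemma TGE.mono {a b : ℤ} (hab : a ≤ b) {K : T} (h : X.TGE b K) : X.TGE a K :=
  fun l i hi => h l i (by omega)

lemma TQ.mono {q : ℕ} {a b : ℤ} (hab : a ≤ b) {K : T} (h : X.TQ q b K) : X.TQ q a K :=
  fun l i hi => h l i (by omega)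

lemma TT.mono {a b : ℤ} (hab : a ≤ b) {K : T} (h : X.TT b K) : X.TT a K :=
  fun l i hi => h l i (by omega)

/-- Lemma B -/
lemma tge_of {a : ℤ} {K : T} (h : ∀ q : ℕ, q.Prime → X.TQ q a K) (h' : X.TT a K) : X.TGE a K := by
  intro l i hi x
  obtain ⟨n, hn, hx⟩ := h' l i hi x
  have key : ∀ (n : ℕ), n ≠ 0 → ∀ x : (X.F l).M i K, n • x = 0 → x = 0 := by
    intro n
    induction n using Nat.recOnMul with
    | zero => intro h0; exact absurd rfl h0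
    | one => intro _ x hx; simpa using hx
    | prime q hq =>
      intro _ x hx
      exact X.div1 q l K (i - 1) i (by omega) (h q hq l (i - 1) (by omega)) x hx
    | mul a b iha ihb =>
      intro hab x hx
      rw [mul_nsmul'] at hx
      have ha : a ≠ 0 := by rintro rfl; simp at hab
      have hb : b ≠ 0 := by rintro rfl; simp at hab
      exact ihb hb x (iha ha _ hx)
  exact key n hn x hx

/-- `q` bijective on everything -/
lemma tq_of_bij {q : ℕ} {K : T} (h : ∀ (l : X.Λ) (i : ℤ), Function.Bijective (fun x : (X.F l).M i K => q • x)) (a : ℤ) :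
    X.TQ q a K := by
  intro l i _
  refine X.div2 q l K i (i + 1) rfl (fun x => (h l i).2 x) (fun x hx => (h l (i + 1)).1 ?_)
  simpa using hx

lemma tq_of_sl {S : Set ℕ} {q : ℕ} (hq : q ∈ S) {K : T} (h : X.SL S K) (a : ℤ) : X.TQ q a K :=
  tq_of_bij (fun l i => X.sl h q hq l i) a

/-- torsion prime to `q` below `a` -/
lemma tq_of_tor {S : Set ℕ} {q : ℕ} (hq : ∀ n ∈ S, n.Coprime q) {a : ℤ} {K : T}
    (h : ∀ (l : X.Λ), ∀ i < a, (X.F l).Tor S i K) : X.TQ q (a - 1) K := by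
  intro l i hi
  refine X.div2 q l K i (i + 1) rfl (fun x => ?_) (fun x hx => ?_)
  · obtain ⟨n, hn, h0⟩ := h l i (by omega) x
    exact (coprime_kill (hq n hn) h0).1
  · obtain ⟨n, hn, h0⟩ := h l (i + 1) (by omega) x
    exact (coprime_kill (hq n hn) h0).2 hx

lemma tq_of_tor' {S : Set ℕ} {q : ℕ} (hq : ∀ n ∈ S, n.Coprime q) {K : T}
    (h : ∀ (l : X.Λ) (i : ℤ), (X.F l).Tor S i K) (a : ℤ) : X.TQ q a K := by
  have := tq_of_tor (X := X) hq (a := a + 1) (K := K) (fun l i _ => h l i)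
  simpa using this

section triangles

variable {A B C : T} {f : A ⟶ B} {g : B ⟶ C} {h : C ⟶ A⟦(1 : ℤ)⟧} (H : Dist f g h)
include H

lemma tq₁ {q : ℕ} {a : ℤ} (h₃ : X.TQ q (a - 1) C) (h₂ : X.TQ q a B) : X.TQ q a A := fun l i hi =>
  CohF.z₁ H (i := i - 1) (by omega) (h₃ l (i - 1) (by omega)) (h₂ l i hi)

lemma tq₃ {q : ℕ} {a : ℤ} (h₂ : X.TQ q (a - 1) B) (h₁ : X.TQ q a A) : X.TQ q (a - 1) C :=
  fun l i hi => CohF.z₃ H rfl (h₂ l i hi) (h₁ l (i + 1) (by omega))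

/-- the third vertex of the triangle over a localization is torsion -/
lemma IsL.tor {S : Set ℕ} (hS : ∀ m ∈ S, ∀ n ∈ S, m * n ∈ S) (hL : X.IsL S f) (l : X.Λ) (i : ℤ) :
    (X.F l).Tor S i C :=
  CohF.tor₃ H hS rfl (hL.2 l (i + 1)).1 (hL.2 l i).2

end triangles

/-- **the homotopy fibre product** of `f : A ⟶ D` and `g : B ⟶ D` -/
lemma exists_pb {A B D : T} (f : A ⟶ D) (g : B ⟶ D) (hA : X.Bd A) (hB : X.Bd B) (hD : X.Bd D) :
    ∃ (W E : T) (α : W ⟶ A) (β : W ⟶ B) (d : D ⟶ E) (e : E ⟶ A⟦(1 : ℤ)⟧) (e' : E ⟶ W⟦(1 : ℤ)⟧), X.Bd W ∧ X.Bd E ∧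
      Dist f d e ∧ Dist β (g ≫ d) e' ∧
      ∀ (F : CohF.{w, v, u} T) (i : ℤ) (a : F.M i A) (b : F.M i B), F.map i f a = F.map i g b →
        ∃ w : F.M i W, F.map i α w = a ∧ F.map i β w = b := by
  obtain ⟨E, d, e, h1, hE⟩ := X.cone f hA hD
  obtain ⟨W, β, e', h2, hW⟩ := X.fib (g ≫ d) hB hE
  obtain ⟨α, h3, h4⟩ : ∃ α : W ⟶ A, β ≫ g = α ≫ f ∧ e' ≫ α⟦1⟧' = 𝟙 E ≫ e :=
    complete_distinguished_triangle_morphism₁ _ _ h2 h1 g (𝟙 E) (Category.comp_id _)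
  refine ⟨W, E, α, β, d, e, e', hW, hE, h1, h2, fun F i a b hab => ?_⟩
  have hb : F.map i (g ≫ d) b = 0 := by
    rw [F.map_comp, ← hab]
    exact F.d12 h1 i a
  obtain ⟨w₀, hw₀⟩ := F.ex2 h2 i b hb
  have h5 : F.map i f (a - F.map i α w₀) = 0 := by
    rw [map_sub, ← F.map_comp, ← h3, F.map_comp, hw₀, hab, sub_self]
  obtain ⟨y, hy⟩ := F.ex1 h1 (i - 1) i (by omega) _ h5
  have h6 := F.nat h2 h1 α g (𝟙 E) h3 (Category.comp_id _) h4 (i - 1) i (by omega) y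
  rw [F.map_id] at h6
  refine ⟨w₀ + F.δ h2 (i - 1) i (by omega) y, ?_, ?_⟩
  · rw [map_add, ← h6, hy, add_sub_cancel]
  · rw [map_add, F.d31, add_zero, hw₀]

/-- `y` is hit by a bounded object with a lower Tor bound and with the property `P` -/
def HitBy (X : Ctx.{w, v, u, t} T) (F : CohF.{w, v, u} T) (j : ℤ) (P : T → Prop) (Y : T) (y : F.M j Y) : Prop :=
  ∃ (K : T) (f : K ⟶ Y) (k : F.M j K) (a : ℤ), X.Bd K ∧ X.TGE a K ∧ P K ∧ F.map j f k = y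

/-- hits for `q`-local bounded objects -/
def Hq (X : Ctx.{w, v, u, t} T) (F : CohF.{w, v, u} T) (j : ℤ) (q : ℕ) : Prop :=
  ∀ Y : T, X.Bd Y → X.SL (Sq q) Y → ∀ y : F.M j Y, X.HitBy F j (X.SL (Sq q)) Y y

/-- **one glueing step at `q`** -/
lemma step {F : CohF.{w, v, u} T} {j : ℤ} {q : ℕ} (hq : q.Prime) (hL : X.HasL (Sq q)) (h : X.Hq F j q)
    {K : T} (hK : X.Bd K) (k : F.M j K) :
    ∃ (W : T) (f : W ⟶ K) (w : F.M j W) (a : ℤ), X.Bd W ∧ F.map j f w = k ∧ X.TQ q a W ∧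
      (∀ (q' : ℕ) (b : ℤ), q'.Prime → q' ≠ q → X.TQ q' b K → X.TQ q' b W) ∧
      (∀ (l : X.Λ), ∀ i < a, (X.F l).Tor (Sq q) i W) := by
  obtain ⟨D, ℓ, hD, hℓ⟩ := hL K hK
  obtain ⟨B, g, b, a, hB, hBT, hBL, hgb⟩ := h D hD hℓ.1 (F.map j ℓ k)
  obtain ⟨W, E, α, β, d, e, e', hW, hE, h1, h2, hpb⟩ := exists_pb ℓ g hK hB hD
  obtain ⟨w, hw, -⟩ := hpb F j k b hgb.symm
  have hE' : ∀ (l : X.Λ) (i : ℤ), (X.F l).Tor (Sq q) i E := hℓ.tor h1 mul_Sq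
  refine ⟨W, α, w, a - 1, hW, hw, ?_, ?_, ?_⟩
  · exact tq₁ h2 (tq_of_tor' (fun n hn => hn) hE' _) (hBT.tq q)
  · intro q' b hq' hne hKq
    have hc : q' ∈ Sq q := (Nat.coprime_primes hq' hq).2 hne
    exact tq₁ h2 (tq₃ h1 (tq_of_sl hc hℓ.1 _) hKq) (tq_of_sl hc hBL _)
  · intro l i hi
    refine CohF.tor₁ h2 mul_Sq (i := i - 1) (by omega) (hE' l _) (fun x => ⟨1, ?_, ?_⟩)
    · exact Nat.coprime_one_left q
    · rw [hBT l i (by omega) x, smul_zero]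

/-- **OverZ at a point of characteristic `p`** -/
theorem overZp {F : CohF.{w, v, u} T} {j : ℤ} {p : ℕ} (hp : p.Prime) (hL : X.HasL (Sq p)) (hL' : X.HasL (Sp p))
    (h : X.Hq F j p) (hF : ∀ K : T, X.SL (Sp p) K → F.Z j K) {Y : T} (hY : X.Bd Y) (y : F.M j Y) :
    X.HitBy F j (fun _ => True) Y y := by
  obtain ⟨W, f, w, a, hW, hfw, hWp, -, -⟩ := step hp hL h hY y
  obtain ⟨D, ℓ, hD, hℓ⟩ := hL' W hW
  obtain ⟨G, γ, e, h1, hG⟩ := X.fib ℓ hW hD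
  obtain ⟨g, hg⟩ := F.ex2 h1 j w (hF D hℓ.1 _)
  have hGt : ∀ (l : X.Λ) (i : ℤ), (X.F l).Tor (Sp p) i G := by
    intro l i x
    obtain ⟨n, hn, h0⟩ := (hℓ.2 l i).1 ((X.F l).map i γ x) ((X.F l).d12 h1 i x)
    rw [← map_nsmul] at h0
    obtain ⟨z, hz⟩ := (X.F l).ex1 h1 (i - 1) i (by omega) _ h0
    obtain ⟨m, hm, v, hv⟩ := (hℓ.2 l (i - 1)).2 z
    refine ⟨m * n, mul_Sp m hm n hn, ?_⟩
    rw [mul_nsmul', ← hz, ← map_nsmul, ← hv, (X.F l).d23 h1]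
  refine ⟨G, γ ≫ f, g, a, hG, ?_, trivial, by rw [F.map_comp, hg, hfw]⟩
  refine tge_of (fun q hq => ?_) (fun l i hi x => ?_)
  · by_cases hqp : q = p
    · subst hqp
      exact tq₁ h1 (tq_of_sl (show q ∈ Sp q from ⟨1, (pow_one q).symm⟩) hℓ.1 _) hWp
    · refine tq_of_tor' (S := Sp p) ?_ hGt a
      rintro _ ⟨k, rfl⟩
      exact Nat.Coprime.pow_left k ((Nat.coprime_primes hp hq).2 (Ne.symm hqp))
  · obtain ⟨n, ⟨k, hk⟩, h0⟩ := hGt l i x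
    refine ⟨n, ?_, h0⟩
    change n ≠ 0
    rw [hk]
    exact pow_ne_zero k hp.ne_zero

/-- glueing at all primes of a list -/
lemma steps {F : CohF.{w, v, u} T} {j : ℤ} (hL : ∀ q : ℕ, q.Prime → X.HasL (Sq q))
    (h : ∀ q : ℕ, q.Prime → X.Hq F j q) {K : T} (hK : X.Bd K) (k : F.M j K) (s : List ℕ) (hs : ∀ q ∈ s, q.Prime) :
    ∃ (W : T) (f : W ⟶ K) (w : F.M j W) (a : ℤ), X.Bd W ∧ F.map j f w = k ∧ (∀ q ∈ s, X.TQ q a W) ∧
      (∀ (q : ℕ) (b : ℤ), q.Prime → q ∉ s → X.TQ q b K → X.TQ q b W) ∧ (s ≠ [] → X.TT a W) := by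
  induction s with
  | nil =>
    exact ⟨K, 𝟙 K, k, 0, hK, F.map_id j K k, by simp, fun _ _ _ _ hb => hb, fun hn => absurd rfl hn⟩
  | cons q s ih =>
    have hq := hs q (List.mem_cons_self)
    obtain ⟨W, f, w, a, hW, hfw, h1, h2, -⟩ := ih (fun q' hq' => hs q' (List.mem_cons_of_mem _ hq'))
    obtain ⟨W', f', w', a', hW', hfw', h1', h2', h3'⟩ := step hq (hL q hq) (h q hq) hW w
    refine ⟨W', f' ≫ f, w', min a a', hW', by rw [F.map_comp, hfw', hfw], ?_, ?_, ?_⟩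
    · intro r hr
      by_cases hrq : r = q
      · subst hrq
        exact h1'.mono (min_le_right _ _)
      · have hr' : r ∈ s := (List.mem_cons.1 hr).resolve_left hrq
        exact h2' r _ (hs r hr) hrq ((h1 r hr').mono (min_le_left _ _))
    · intro r b hr hrs hb
      rw [List.mem_cons, not_or] at hrs
      exact h2' r b hr hrs.1 (h2 r b hr hrs.2 hb)
    · intro _ l i hi x
      obtain ⟨n, hn, h0⟩ := h3' l i (lt_of_lt_of_le hi (min_le_right _ _)) x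
      exact ⟨n, ne_zero_of_mem_Sq hq hn, h0⟩

/-- **OverZ at a point of characteristic `0`** -/
theorem overZ0 {F : CohF.{w, v, u} T} {j : ℤ} (hL : ∀ q : ℕ, q.Prime → X.HasL (Sq q))
    (h : ∀ q : ℕ, q.Prime → X.Hq F j q) {Y : T} (y : F.M j Y)
    (hM : ∃ (K : T) (f : K ⟶ Y) (k : F.M j K) (n : ℕ) (b : ℤ), n ≠ 0 ∧ X.Bd K ∧ F.map j f k = y ∧
      ∀ q : ℕ, q.Prime → ¬ q ∣ n → X.TQ q b K) :
    X.HitBy F j (fun _ => True) Y y := by
  obtain ⟨K, f, k, n, b, hn, hK, hfk, hKq⟩ := hM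
  obtain ⟨W, f', w, a, hW, hfw, h1, h2, h3⟩ := steps hL h hK k (2 :: n.primeFactorsList) (by
    intro q hq
    rcases List.mem_cons.1 hq with rfl | hq
    · exact Nat.prime_two
    · exact Nat.prime_of_mem_primeFactorsList hq)
  refine ⟨W, f' ≫ f, w, min a b, hW, ?_, trivial, by rw [F.map_comp, hfw, hfk]⟩
  refine tge_of (fun q hq => ?_) ((h3 (by simp)).mono (min_le_left _ _))
  by_cases hqs : q ∈ 2 :: n.primeFactorsList
  · exact (h1 q hqs).mono (min_le_left _ _)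
  · refine h2 q _ hq hqs ((hKq q hq fun hd => hqs ?_).mono (min_le_right _ _))
    exact List.mem_cons_of_mem _ ((Nat.mem_primeFactorsList hn).2 ⟨hq, hd⟩)

end Ctx

end Groth.Agent.ResProp.EF.K353
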