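import Groth.Agent.ResProp.EF.K294.Tor

/-!
# OverZ (S16912, formal end): from the localizations `ℤ_(q)` of the base to `ℤ`. Definitions, interface.

`us : C ⥤ Mod R` exact, faithful, commutes with sequential colimits (`v^*`, `C = QCoh X`, everything over `ℤ`).
`h j L Y = H^j(v^* Y ⊗ L)`, `L` a complex of flat modules in degrees `≤ 0` (a resolution of `κ(x)`).
Everything is for *honest* maps of bounded complexes of `C`.

* `Hq`: every element of `h j L Y`, `Y` bounded and `q`-local, is hit by a bounded `q`-local `T` with a lower Tor bound;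
* `HqFg`: the same, and `H^i(v^* T)` is finitely generated over `R_(q)`;
* `Out`: every element of `h j L Y`, `Y` bounded, is hit by a bounded `T` with a lower Tor bound.
* `LocFin`: finite sets of sections lie in a finitely generated subobject.
* `Spread`: (spreading out) if `K_ℚ` is of Tor-amplitude `≥ a` then so is `K[1/n]` for some `n`.
-/

set_option autoImplicit false

universe w v u

open CategoryTheory CategoryTheory.Limits HomologicalComplex

namespace Groth.Agent.ResProp.EF.K353

open Groth.Agent.ResProp.EF.K294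

section cat

variable {C : Type v} [Category.{w} C] [Abelian C]

/-- (strictly) bounded complexes -/
def Bdd (Y : CochainComplex C ℤ) : Prop := ∃ a b : ℤ, Y.IsStrictlyGE a ∧ Y.IsStrictlyLE b

/-- every natural number prime to `q` is invertible on the object `M` (`q` a prime number) -/
def QLocO (q : ℕ) (M : C) : Prop := ∀ n : ℕ, n.Coprime q → IsIso ((n : ℤ) • 𝟙 M)

/-- complexes with `q`-local terms -/
def QLoc (q : ℕ) (Y : CochainComplex C ℤ) : Prop := ∀ i : ℤ, QLocO q (Y.X i)

end cat

variable {R : Type u} [CommRing R]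

/-- all cohomology modules are finitely generated over `R_(q)` -/
def FgCoh (q : ℕ) (K : CM R) : Prop := ∀ i : ℤ, ∃ s : Finset (K.homology i), ∀ x : K.homology i,
  ∃ n : ℕ, n.Coprime q ∧ (n : ℤ) • x ∈ Submodule.span R (s : Set (K.homology i))

/-- `n` acts bijectively on all `H^i(K ⊗ L)`, all `n ≠ 0`: e.g. `L` a resolution of a field of characteristic `0` -/
def Char0 (L : CM R) : Prop := ∀ n : ℕ, n ≠ 0 → ∀ (K : CM R) (i : ℤ),
  Function.Bijective (fun x : (tens K L).homology i => (n : ℤ) • x)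

/-- `p` kills all `H^i(K ⊗ L)`: e.g. `L` a resolution of a field of characteristic `p` -/
def CharP (p : ℕ) (L : CM R) : Prop := ∀ (K : CM R) (i : ℤ) (x : (tens K L).homology i), (p : ℤ) • x = 0

/-- `K ⟶ K'` is the localization at all non-zero integers, on all `H^i(- ⊗ L)`, `L` flat -/
def IsRat {K K' : CM R} (φ : K ⟶ K') : Prop := ∀ L : CM R, IsTest L → ∀ i : ℤ,
  (∀ n : ℕ, n ≠ 0 → Function.Bijective (fun x : (tens K' L).homology i => (n : ℤ) • x)) ∧
  (∀ x : (tens K L).homology i, (homologyMap ((tensR L).map φ) i).hom x = 0 → ∃ n : ℕ, n ≠ 0 ∧ (n : ℤ) • x = 0) ∧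
  (∀ y : (tens K' L).homology i, ∃ n : ℕ, n ≠ 0 ∧ ∃ x, (homologyMap ((tensR L).map φ) i).hom x = (n : ℤ) • y)

/-- spreading out from `ℚ` (for Noetherian `R`) -/
def Spread (R : Type u) [CommRing R] : Prop := ∀ (K K' : CM R) (φ : K ⟶ K') (a : ℤ), Bdd K →
  (∀ i, Module.Finite R (K.X i)) → IsRat φ → TorGE a K' →
  ∃ (n : ℕ) (b : ℤ), n ≠ 0 ∧ ∀ L : CM R, IsTest L → ∀ i < b, ∀ x : (tens K L).homology i,
    ∃ k : ℕ, ((n : ℤ) ^ k) • x = 0

section us

variable {C : Type v} [Category.{w} C] [Abelian C] (us : C ⥤ ModuleCat.{u} R) [us.Additive]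

/-- `v^*` on complexes. -/
noncomputable abbrev vC : CochainComplex C ℤ ⥤ CM R := us.mapHomologicalComplex (ComplexShape.up ℤ)

/-- `h j L Y = H^j(v^* Y ⊗ L)` -/
noncomputable abbrev hh (L : CM R) (j : ℤ) : CochainComplex C ℤ ⥤ ModuleCat.{u} R :=
  vC us ⋙ tensR L ⋙ homologyFunctor _ _ j

/-- `y` is hit by an honest map from a bounded complex with a lower Tor bound and with the property `P` -/
def HitBy (L : CM R) (j : ℤ) (P : CochainComplex C ℤ → Prop) (Y : CochainComplex C ℤ) (y : (hh us L j).obj Y) : Prop :=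
  ∃ (T : CochainComplex C ℤ) (f : T ⟶ Y) (t : (hh us L j).obj T) (a : ℤ),
    Bdd T ∧ TorGE a ((vC us).obj T) ∧ P T ∧ ((hh us L j).map f).hom t = y

/-- hits for `q`-local bounded complexes -/
def Hq (L : CM R) (j : ℤ) (q : ℕ) : Prop := ∀ Y : CochainComplex C ℤ, Bdd Y → QLoc q Y → ∀ y : (hh us L j).obj Y,
  HitBy us L j (QLoc q) Y y

/-- hits for `q`-local bounded complexes, by complexes with finitely generated cohomology over `R_(q)` -/
def HqFg (L : CM R) (j : ℤ) (q : ℕ) : Prop := ∀ Y : CochainComplex C ℤ, Bdd Y → QLoc q Y → ∀ y : (hh us L j).obj Y,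
  HitBy us L j (fun T => QLoc q T ∧ FgCoh q ((vC us).obj T)) Y y

/-- hits for all bounded complexes over `ℤ` -/
def Out (L : CM R) (j : ℤ) : Prop := ∀ Y : CochainComplex C ℤ, Bdd Y → ∀ y : (hh us L j).obj Y,
  HitBy us L j (fun _ => True) Y y

/-- finite sets of sections lie in a finitely generated subobject -/
def LocFin : Prop := ∀ (N : C) (s : Finset (us.obj N)), ∃ (N' : C) (i : N' ⟶ N), Mono i ∧
  Module.Finite R (us.obj N') ∧ ∀ x ∈ s, ∃ y : us.obj N', (us.map i).hom y = x

/-- **OverZ at a point of characteristic `p`** -/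
def StmtOverZp : Prop := ∀ (L : CM R) (j : ℤ) (p : ℕ), p.Prime → IsTest L → CharP p L → Hq us L j p → Out us L j

/-- **OverZ at a point of characteristic `0`** -/
def StmtOverZ0 : Prop := ∀ (L : CM R) (j : ℤ) (p : ℕ), p.Prime → IsTest L → Char0 L →
  (∀ q : ℕ, q.Prime → Hq us L j q) → HqFg us L j p → LocFin us → Spread R → Out us L j

end us

end Groth.Agent.ResProp.EF.K353
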