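import Groth.Agent.ResProp.EF.K353.Abs
import Groth.Agent.ResProp.EF.K353.Defs
import Groth.Agent.Dcoh.CxFun
import Mathlib.Algebra.Homology.HomotopyCategory.ShiftSequence
import Mathlib.Algebra.Homology.HomotopyCategory.HomologicalFunctor

/-!
# The cohomological functors `Y ↦ H^i(v^* Y ⊗ L)` on the homotopy category
-/

set_option autoImplicit false
set_option backward.defeqAttrib.useBackward true
set_option backward.isDefEq.respectTransparency false

universe w v u w' v'

open CategoryTheory CategoryTheory.Limits CategoryTheory.Pretriangulated HomologicalComplex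

namespace Groth.Agent.ResProp.EF.K353

open Groth.Agent.ResProp.EF.K294 Groth.Agent.Dcoh.CxFun Groth.Agent.PerfB.RingKFlat

section

variable {T : Type v} [Category.{w} T] [Preadditive T] [HasZeroObject T] [HasShift T ℤ]
  [∀ n : ℤ, (shiftFunctor T n).Additive] [Pretriangulated T]
  {D : Type v'} [Category.{w'} D] [Preadditive D] [HasZeroObject D] [HasShift D ℤ]
  [∀ n : ℤ, (shiftFunctor D n).Additive] [Pretriangulated D] {R : Type u} [CommRing R]

lemma exact_elt {S : ShortComplex (ModuleCat.{u} R)} (hS : S.Exact) (x : S.X₂) (hx : S.g.hom x = 0) :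
    ∃ y, S.f.hom y = x := (ShortComplex.moduleCat_exact_iff S).1 hS x hx

/-- the cohomological functor `F ∘ G`, `G` triangulated and `F` homological -/
noncomputable def CohF.of (G : T ⥤ D) [G.CommShift ℤ] [G.IsTriangulated] (F : D ⥤ ModuleCat.{u} R) [F.IsHomological]
    [F.ShiftSequence ℤ] : CohF.{w, v, u} T where
  M i X := (F.shift i).obj (G.obj X)
  grp i X := inferInstance
  map i X Y f := ((F.shift i).map (G.map f)).hom.toAddMonoidHom
  map_id i X x := by
    rw [G.map_id, CategoryTheory.Functor.map_id]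
    rfl
  map_comp i X Y Z f g x := by
    rw [G.map_comp, CategoryTheory.Functor.map_comp]
    rfl
  δ {A B C f g h} _ i j hij := (F.homologySequenceδ (G.mapTriangle.obj (Triangle.mk f g h)) i j hij).hom.toAddMonoidHom
  nat {A B C f g h} H {A' B' C' f' g' h'} H' a b c e₁ e₂ e₃ i j hij x := by
    let φ : Triangle.mk f g h ⟶ Triangle.mk f' g' h' :=
      { hom₁ := a, hom₂ := b, hom₃ := c, comm₁ := e₁, comm₂ := e₂, comm₃ := e₃ }
    have := F.homologySequenceδ_naturality _ _ (G.mapTriangle.map φ) i j hij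
    exact congrArg (fun k => k.hom x) this
  d31 {A B C f g h} H i j hij x := by
    have := F.homologySequenceδ_comp _ (G.map_distinguished _ H) i j hij
    exact congrArg (fun k => k.hom x) this
  d12 {A B C f g h} H i x := by
    have := F.homologySequence_comp _ (G.map_distinguished _ H) i
    exact congrArg (fun k => k.hom x) this
  d23 {A B C f g h} H i j hij x := by
    have := F.comp_homologySequenceδ _ (G.map_distinguished _ H) i j hij
    exact congrArg (fun k => k.hom x) this
  ex2 {A B C f g h} H i x hx := exact_elt (F.homologySequence_exact₂ _ (G.map_distinguished _ H) i) x hx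
  ex3 {A B C f g h} H i j hij x hx := exact_elt (F.homologySequence_exact₃ _ (G.map_distinguished _ H) i j hij) x hx
  ex1 {A B C f g h} H i j hij x hx := exact_elt (F.homologySequence_exact₁ _ (G.map_distinguished _ H) i j hij) x hx

end

variable {R : Type u} [CommRing R] {C : Type v} [Category.{w} C] [Abelian C] (us : C ⥤ ModuleCat.{u} R) [us.Additive]

/-- the homotopy category -/
abbrev KK (C : Type v) [Category.{w} C] [Abelian C] := HomotopyCategory C (ComplexShape.up ℤ)

/-- the quotient functor -/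
noncomputable abbrev qq (C : Type v) [Category.{w} C] [Abelian C] : CochainComplex C ℤ ⥤ KK C :=
  HomotopyCategory.quotient C (ComplexShape.up ℤ)

/-- `Y ↦ v^* Y ⊗ L` on homotopy categories -/
noncomputable abbrev Gt (L : CM R) : KK C ⥤ KK (ModuleCat.{u} R) :=
  us.mapHomotopyCategory (ComplexShape.up ℤ) ⋙ mapH (tensR L)

/-- `Y ↦ H^i(v^* Y ⊗ L)` -/
noncomputable def FL (L : CM R) : CohF.{w, max v w, u} (KK C) :=
  CohF.of (Gt us L) (HomotopyCategory.homologyFunctor (ModuleCat.{u} R) (ComplexShape.up ℤ) 0)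

/-- transport along additive equivalences -/
noncomputable def CohF.congr {T : Type v} [Category.{w} T] [Preadditive T] [HasZeroObject T] [HasShift T ℤ]
    [∀ n : ℤ, (shiftFunctor T n).Additive] [Pretriangulated T] (F : CohF.{w, v, u} T) (M' : ℤ → T → Type u)
    [g : ∀ i X, AddCommGroup (M' i X)] (e : ∀ i X, F.M i X ≃+ M' i X) : CohF.{w, v, u} T where
  M := M'
  grp := g
  map i X Y f := ((e i Y).toAddMonoidHom.comp (F.map i f)).comp (e i X).symm.toAddMonoidHom
  map_id i X x := by
    change e i X (F.map i (𝟙 X) ((e i X).symm x)) = x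
    rw [F.map_id, AddEquiv.apply_symm_apply]
  map_comp i X Y Z f g x := by
    change e i Z (F.map i (f ≫ g) ((e i X).symm x)) = e i Z (F.map i g ((e i Y).symm (e i Y (F.map i f _))))
    rw [F.map_comp, AddEquiv.symm_apply_apply]
    rfl
  δ {A B C f g h} H i j hij := ((e j A).toAddMonoidHom.comp (F.δ H i j hij)).comp (e i C).symm.toAddMonoidHom
  nat {A B C f g h} H {A' B' C' f' g' h'} H' a b c e₁ e₂ e₃ i j hij x := by
    change e j A' (F.δ H' i j hij ((e i C').symm (e i C' (F.map i c ((e i C).symm x))))) =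
      e j A' (F.map j a ((e j A).symm (e j A (F.δ H i j hij ((e i C).symm x)))))
    rw [AddEquiv.symm_apply_apply, AddEquiv.symm_apply_apply, F.nat H H' a b c e₁ e₂ e₃]
  d31 {A B C f g h} H i j hij x := by
    change e j B (F.map j f ((e j A).symm (e j A (F.δ H i j hij ((e i C).symm x))))) = 0
    rw [AddEquiv.symm_apply_apply, F.d31 H, map_zero]
  d12 {A B C f g h} H i x := by
    change e i C (F.map i g ((e i B).symm (e i B (F.map i f ((e i A).symm x))))) = 0
    rw [AddEquiv.symm_apply_apply, F.d12 H, map_zero]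
  d23 {A B C f g h} H i j hij x := by
    change e j A (F.δ H i j hij ((e i C).symm (e i C (F.map i g ((e i B).symm x))))) = 0
    rw [AddEquiv.symm_apply_apply, F.d23 H, map_zero]
  ex2 {A B C f g h} H i x hx := by
    have hx' : e i C (F.map i g ((e i B).symm x)) = 0 := hx
    obtain ⟨y, hy⟩ := F.ex2 H i ((e i B).symm x) ((e i C).map_eq_zero_iff.1 hx')
    refine ⟨e i A y, ?_⟩
    change e i B (F.map i f ((e i A).symm (e i A y))) = x
    rw [AddEquiv.symm_apply_apply, hy, AddEquiv.apply_symm_apply]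
  ex3 {A B C f g h} H i j hij x hx := by
    have hx' : e j A (F.δ H i j hij ((e i C).symm x)) = 0 := hx
    obtain ⟨y, hy⟩ := F.ex3 H i j hij ((e i C).symm x) ((e j A).map_eq_zero_iff.1 hx')
    refine ⟨e i B y, ?_⟩
    change e i C (F.map i g ((e i B).symm (e i B y))) = x
    rw [AddEquiv.symm_apply_apply, hy, AddEquiv.apply_symm_apply]
  ex1 {A B C f g h} H i j hij x hx := by
    have hx' : e j B (F.map j f ((e j A).symm x)) = 0 := hx
    obtain ⟨y, hy⟩ := F.ex1 H i j hij ((e j A).symm x) ((e j B).map_eq_zero_iff.1 hx')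
    refine ⟨e i C y, ?_⟩
    change e j A (F.δ H i j hij ((e i C).symm (e i C y))) = x
    rw [AddEquiv.symm_apply_apply, hy, AddEquiv.apply_symm_apply]

/-- the comparison with homology of complexes -/
noncomputable def eL (L : CM R) (i : ℤ) (X : KK C) : (FL us L).M i X ≃+ (hh us L i).obj X.as :=
  ((HomotopyCategory.homologyFunctorFactors (ModuleCat.{u} R) (ComplexShape.up ℤ) i).app
    (tens ((vC us).obj X.as) L)).toLinearEquiv.toAddEquiv

/-- `Y ↦ H^i(v^* Y ⊗ L)`, with the honest values -/
noncomputable def FH (L : CM R) : CohF.{w, max v w, u} (KK C) :=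
  (FL us L).congr (fun i X => (hh us L i).obj X.as) (eL us L)

lemma eL_nat (L : CM R) (i : ℤ) {Y Y' : CochainComplex C ℤ} (f : Y ⟶ Y') (x : (hh us L i).obj Y) :
    (FL us L).map i ((qq C).map f) ((eL us L i ((qq C).obj Y)).symm x) =
      (eL us L i ((qq C).obj Y')).symm (((hh us L i).map f).hom x) := by
  have := (HomotopyCategory.homologyFunctorFactors (ModuleCat.{u} R) (ComplexShape.up ℤ) i).inv.naturality
    ((tensR L).map ((vC us).map f))
  have h1 := congrArg (fun k => k.hom x) this
  exact h1.symm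

/-- the identity -/
noncomputable def tF (L : CM R) (i : ℤ) (Y : CochainComplex C ℤ) : (hh us L i).obj Y ≃+ (FH us L).M i ((qq C).obj Y) :=
  AddEquiv.refl ((hh us L i).obj Y)

lemma tF_map (L : CM R) (i : ℤ) {Y Y' : CochainComplex C ℤ} (f : Y ⟶ Y') (x : (hh us L i).obj Y) :
    (FH us L).map i ((qq C).map f) (tF us L i Y x) = tF us L i Y' (((hh us L i).map f).hom x) := by
  change eL us L i ((qq C).obj Y') ((FL us L).map i ((qq C).map f) ((eL us L i ((qq C).obj Y)).symm x)) = _
  rw [eL_nat, AddEquiv.apply_symm_apply]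
  rfl

section div

/-- `L ↦ H^i(K ⊗ L)` -/
noncomputable def FK (K : CM R) : CohF.{u, u + 1, u} (KK (ModuleCat.{u} R)) :=
  (CohF.of (mapH ((TR R).map₂CochainComplex.obj K))
    (HomotopyCategory.homologyFunctor (ModuleCat.{u} R) (ComplexShape.up ℤ) 0)).congr
    (fun i X => (tens K X.as).homology i) (fun i X =>
      ((HomotopyCategory.homologyFunctorFactors (ModuleCat.{u} R) (ComplexShape.up ℤ) i).app
        (tens K X.as)).toLinearEquiv.toAddEquiv)

lemma FK_map (K : CM R) (i : ℤ) {L L' : CM R} (f : L ⟶ L') (x : (tens K L).homology i) :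
    (FK K).map i ((qq (ModuleCat.{u} R)).map f) x =
      (homologyMap (((TR R).map₂CochainComplex.obj K).map f) i).hom x := by
  have := (HomotopyCategory.homologyFunctorFactors (ModuleCat.{u} R) (ComplexShape.up ℤ) i).inv.naturality
    (((TR R).map₂CochainComplex.obj K).map f)
  have h1 := congrArg (fun k => k.hom x) this
  change (((HomotopyCategory.homologyFunctorFactors (ModuleCat.{u} R) (ComplexShape.up ℤ) i).app
        (tens K L')).toLinearEquiv.toAddEquiv)
    ((CohF.of (mapH ((TR R).map₂CochainComplex.obj K))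
      (HomotopyCategory.homologyFunctor (ModuleCat.{u} R) (ComplexShape.up ℤ) 0)).map i
      ((qq (ModuleCat.{u} R)).map f) ((((HomotopyCategory.homologyFunctorFactors (ModuleCat.{u} R)
        (ComplexShape.up ℤ) i).app (tens K L)).toLinearEquiv.toAddEquiv).symm x)) = _
  rw [← AddEquiv.eq_symm_apply]
  exact h1.symm

/-- `L // n` -/
noncomputable abbrev dv (n : ℕ) (L : CM R) : CM R := CochainComplex.mappingCone ((n : ℤ) • 𝟙 L)

lemma FK_smul (K L : CM R) (n : ℕ) (i : ℤ) (x : (tens K L).homology i) :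
    (FK K).map i ((qq (ModuleCat.{u} R)).map ((n : ℤ) • 𝟙 L)) x = n • x := by
  rw [FK_map]
  have h1 : homologyMap (((TR R).map₂CochainComplex.obj K).map ((n : ℤ) • 𝟙 L)) i = (n : ℤ) • 𝟙 _ := by
    rw [Functor.map_zsmul, CategoryTheory.Functor.map_id]
    change (homologyFunctor (ModuleCat.{u} R) (ComplexShape.up ℤ) i).map _ = _
    rw [Functor.map_zsmul, CategoryTheory.Functor.map_id]
    rfl
  rw [h1, ← natCast_zsmul]
  rfl

/-- the distinguished triangle `L → L → L // n` -/
lemma dist_dv (n : ℕ) (L : CM R) : ∃ e, Dist ((qq (ModuleCat.{u} R)).map ((n : ℤ) • 𝟙 L))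
    ((qq (ModuleCat.{u} R)).map (CochainComplex.mappingCone.inr ((n : ℤ) • 𝟙 L))) e :=
  ⟨_, HomotopyCategory.mappingCone_triangleh_distinguished ((n : ℤ) • 𝟙 L)⟩

lemma div1 (K L : CM R) (n : ℕ) {i j : ℤ} (hij : i + 1 = j) (h : ∀ x : (tens K (dv n L)).homology i, x = 0)
    (x : (tens K L).homology j) (hx : n • x = 0) : x = 0 := by
  obtain ⟨e, he⟩ := dist_dv n L
  obtain ⟨y, hy⟩ := (FK K).ex1 he i j hij x (by rw [FK_smul, hx])
  rw [← hy, show y = 0 from h y, map_zero]

lemma div2 (K L : CM R) (n : ℕ) {i j : ℤ} (hij : i + 1 = j) (h₁ : ∀ x : (tens K L).homology i, ∃ y, n • y = x)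
    (h₂ : ∀ x : (tens K L).homology j, n • x = 0 → x = 0) (x : (tens K (dv n L)).homology i) : x = 0 := by
  obtain ⟨e, he⟩ := dist_dv n L
  have h3 : (FK K).δ he i j hij x = 0 := by
    refine h₂ _ ?_
    rw [← FK_smul]
    exact (FK K).d31 he i j hij x
  obtain ⟨y, hy⟩ := (FK K).ex3 he i j hij x h3
  obtain ⟨z, hz⟩ := h₁ y
  rw [← hy, ← hz, ← FK_smul]
  exact (FK K).d12 he i z

end div

end Groth.Agent.ResProp.EF.K353
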