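import Groth.Agent.ResProp.EF.K353.Defs

/-!
# OverZ: spreading out, torsion form
-/

set_option autoImplicit false

universe u

open CategoryTheory CategoryTheory.Limits HomologicalComplex

namespace Groth.Agent.ResProp.EF.K353

open Groth.Agent.ResProp.EF.K294

/-- **spreading out, torsion form** (for Noetherian `R`): if all classes of `H^i(K ⊗ L)`, `i < a`, `L` flat in degrees
`≤ 0`, are torsion (that is: `K_ℚ` is of Tor-amplitude `≥ a`), then they are killed by powers of one `n`, for `i < b`. -/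
def SpreadT (R : Type u) [CommRing R] : Prop := ∀ (K : CM R) (a : ℤ), Bdd K → (∀ i, Module.Finite R (K.X i)) →
  (∀ L : CM R, IsTest L → ∀ i < a, ∀ x : (tens K L).homology i, ∃ n : ℕ, n ≠ 0 ∧ (n : ℤ) • x = 0) →
  ∃ (n : ℕ) (b : ℤ), n ≠ 0 ∧ ∀ L : CM R, IsTest L → ∀ i < b, ∀ x : (tens K L).homology i,
    ∃ k : ℕ, ((n : ℤ) ^ k) • x = 0

end Groth.Agent.ResProp.EF.K353
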