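import Groth.Agent.ResProp.EF.K353.Defs2

/-!
# OverZ: hits with finitely generated terms
-/

set_option autoImplicit false

universe w v u

open CategoryTheory CategoryTheory.Limits HomologicalComplex

namespace Groth.Agent.ResProp.EF.K353

open Groth.Agent.ResProp.EF.K294

variable {R : Type u} [CommRing R]

/-- all terms are finitely generated over `R_(q)` -/
def FgTer (q : ℕ) (K : CM R) : Prop := ∀ i : ℤ, ∃ s : Finset (K.X i), ∀ x : K.X i,
  ∃ n : ℕ, n.Coprime q ∧ (n : ℤ) • x ∈ Submodule.span R (s : Set (K.X i))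

variable {C : Type v} [Category.{w} C] [Abelian C] (us : C ⥤ ModuleCat.{u} R) [us.Additive]

/-- hits for `q`-local bounded complexes, by complexes with finitely generated terms over `R_(q)` -/
def HqFt (L : CM R) (j : ℤ) (q : ℕ) : Prop := ∀ Y : CochainComplex C ℤ, Bdd Y → QLoc q Y → ∀ y : (hh us L j).obj Y,
  HitBy us L j (fun T => QLoc q T ∧ FgTer q ((vC us).obj T)) Y y

/-- **OverZ at a point of characteristic `0`** (final form) -/
def StmtOverZ0' : Prop := ∀ (L : CM R) (j : ℤ) (p : ℕ), p.Prime → IsTest L → Char0 L →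
  (∀ q : ℕ, q.Prime → Hq us L j q) → HqFt us L j p → LocFin us → SpreadT R → Out us L j

end Groth.Agent.ResProp.EF.K353
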