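import Groth.Agent.ResProp.EF.K353.Inst

/-!
# Morphisms which become isomorphisms after inverting `S`
-/

set_option autoImplicit false
set_option backward.defeqAttrib.useBackward true
set_option backward.isDefEq.respectTransparency false

universe w v u

open CategoryTheory CategoryTheory.Limits HomologicalComplex

namespace Groth.Agent.ResProp.EF.K353

open Groth.Agent.ResProp.EF.K294

section gen

variable {D : Type v} [Category.{w} D] [Preadditive D] {R : Type u} [CommRing R]

/-- kernel and cokernel of `G f` are `S`-torsion -/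
def EqS (S : Set ℕ) (G : D ⥤ ModuleCat.{u} R) {M T : D} (f : M ⟶ T) : Prop :=
  (∀ x : G.obj M, (G.map f).hom x = 0 → ∃ n ∈ S, (n : ℕ) • x = 0) ∧
  (∀ y : G.obj T, ∃ n ∈ S, ∃ x, (G.map f).hom x = (n : ℕ) • y)

/-- functoriality of the diagrams -/
def sqMap (s : ℕ → ℕ) {M T : D} (f : M ⟶ T) : sq s M ⟶ sq s T where
  app _ := f
  naturality k l g := by
    change ((∏ i ∈ Finset.Ico k l, s i) • 𝟙 M) ≫ f = f ≫ ((∏ i ∈ Finset.Ico k l, s i) • 𝟙 T)
    rw [Preadditive.nsmul_comp, Preadditive.comp_nsmul, Category.id_comp, Category.comp_id]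

variable {s : ℕ → ℕ} {S : Set ℕ} (hs : Adm s S) (hS : ∀ m ∈ S, ∀ n ∈ S, m * n ∈ S) {M T : D} (f : M ⟶ T)
  {cM : Cocone (sq s M)} {cT : Cocone (sq s T)} (hM : IsColimit cM) (hT : IsColimit cT)

/-- the map of localizations -/
noncomputable def fS (hM : IsColimit cM) (cT : Cocone (sq s T)) : cM.pt ⟶ cT.pt := hM.map cT (sqMap s f)

lemma ii_fS (k : ℕ) : ii cM k ≫ fS f hM cT = f ≫ ii cT k := hM.ι_map cT (sqMap s f) k

variable (G : D ⥤ ModuleCat.{u} R) [G.Additive] [PreservesColimitsOfShape ℕ G]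

omit [G.Additive] [PreservesColimitsOfShape ℕ G] in
lemma G_ii_fS (k : ℕ) (y : G.obj M) :
    (G.map (fS f hM cT)).hom ((G.map (ii cM k)).hom y) = (G.map (ii cT k)).hom ((G.map f).hom y) := by
  have h1 : G.map (ii cM k) ≫ G.map (fS f hM cT) = G.map f ≫ G.map (ii cT k) := by
    rw [← G.map_comp, ← G.map_comp, ii_fS]
  exact congrArg (fun g => g.hom y) h1

include hs

lemma zero_of_mem {c : Cocone (sq s M)} (hc : IsColimit c) {n : ℕ} (hn : n ∈ S) {x : G.obj c.pt} (h : n • x = 0) :
    x = 0 := by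
  refine (sq_bij G hc hs hn).1 ?_
  change n • x = n • (0 : G.obj c.pt)
  rw [h, smul_zero]

include hT in
/-- (a) -/
lemma bij_of_eqS (h : EqS S G f) : Function.Bijective (G.map (fS f hM cT)).hom := by
  constructor
  · rw [injective_iff_map_eq_zero]
    intro x hx
    obtain ⟨k, y, rfl⟩ := exists_rep G hM x
    rw [G_ii_fS] at hx
    obtain ⟨l, hl, h0⟩ := rep_zero G hT hx
    rw [← map_nsmul] at h0
    obtain ⟨n, hn, h1⟩ := h.1 _ h0
    refine zero_of_mem hs G hM (hs.mem k l) (zero_of_mem hs G hM hn ?_)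
    rw [← map_nsmul, ← map_nsmul, h1, map_zero]
  · intro x
    obtain ⟨k, y, rfl⟩ := exists_rep G hT x
    obtain ⟨n, hn, z, hz⟩ := h.2 y
    obtain ⟨x, hx⟩ := (sq_bij G hM hs hn).2 ((G.map (ii cM k)).hom z)
    have hx' : n • x = (G.map (ii cM k)).hom z := hx
    refine ⟨x, (sq_bij G hT hs hn).1 ?_⟩
    change n • _ = n • _
    rw [← map_nsmul, hx', G_ii_fS, hz, map_nsmul]

include hS hM

/-- (b) -/
lemma eqS_of_bij (hT : IsColimit cT) (h : Function.Bijective (G.map (fS f hM cT)).hom) : EqS S G f := by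
  constructor
  · intro x hx
    refine sq_ker G hM hs x (h.1 ?_)
    rw [G_ii_fS, hx, map_zero, map_zero]
  · intro y
    obtain ⟨x', hx'⟩ := h.2 ((G.map (ii cT 0)).hom y)
    obtain ⟨n, hn, x, hx⟩ := sq_im G hM hs x'
    have h1 : (G.map (ii cT 0)).hom ((G.map f).hom x - n • y) = 0 := by
      rw [map_sub, ← G_ii_fS (hM := hM), hx, map_nsmul, map_nsmul, hx', sub_self]
    obtain ⟨m, hm, h2⟩ := sq_ker G hT hs _ h1
    refine ⟨m * n, hS m hm n hn, m • x, ?_⟩
    rw [map_nsmul, mul_smul, ← sub_eq_zero, ← smul_sub, h2]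

end gen

section cx

variable {R : Type u} [CommRing R] {C : Type v} [Category.{w} C] [Abelian C] (us : C ⥤ ModuleCat.{u} R) [us.Additive]
  [HasColimitsOfShape ℕ C] [PreservesColimitsOfShape ℕ us] [us.ReflectsIsomorphisms]

/-- a morphism of complexes which is an isomorphism up to `S`-torsion on all terms is one on all additive functors
commuting with sequential colimits -/
theorem eqS_of_terms {s : ℕ → ℕ} {S : Set ℕ} (hs : Adm s S) (hS : ∀ m ∈ S, ∀ n ∈ S, m * n ∈ S)
    {M T : CochainComplex C ℤ} (f : M ⟶ T) (h : ∀ i, EqS S us (f.f i))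
    (G : CochainComplex C ℤ ⥤ ModuleCat.{u} R) [G.Additive] [PreservesColimitsOfShape ℕ G] : EqS S G f := by
  let hM := colimit.isColimit (sq s M)
  let hT := colimit.isColimit (sq s T)
  have h1 : ∀ i, IsIso ((fS f hM (colimit.cocone (sq s T))).f i) := by
    intro i
    have h2 := bij_of_eqS hs f hM hT (eval C (ComplexShape.up ℤ) i ⋙ us) (h i)
    have h3 : IsIso (us.map ((fS f hM (colimit.cocone (sq s T))).f i)) :=
      (ConcreteCategory.isIso_iff_bijective _).2 h2
    exact isIso_of_reflects_iso _ us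
  have h4 : IsIso (fS f hM (colimit.cocone (sq s T))) := HomologicalComplex.Hom.isIso_of_components _
  exact eqS_of_bij hs hS f hM G hT ((ConcreteCategory.isIso_iff_bijective _).1 inferInstance)

end cx

end Groth.Agent.ResProp.EF.K353
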