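import Groth.Agent.ResProp.EF.K353.EqS
import Groth.Agent.ResProp.EF.K353.Defs3
import Mathlib.Algebra.Category.ModuleCat.EpiMono

/-!
# Finitely generated subcomplexes
-/

set_option autoImplicit false
set_option backward.defeqAttrib.useBackward true
set_option backward.isDefEq.respectTransparency false

universe w v u

open CategoryTheory CategoryTheory.Limits HomologicalComplex

namespace Groth.Agent.ResProp.EF.K353

open Groth.Agent.ResProp.EF.K294

/-- ascending recursion on the integers, with choices -/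
lemma exists_asc {T : ℤ → Type*} (Q : ∀ i j : ℤ, i + 1 = j → T i → T j → Prop) (b : ℤ) (dn : ∀ i, i ≤ b → T i)
    (hdn : ∀ (i j : ℤ) (h : i + 1 = j), j ≤ b → ∀ (s : T i) (t : T j), Q i j h s t)
    (hup : ∀ (i j : ℤ) (h : i + 1 = j) (s : T i), ∃ t : T j, Q i j h s t) :
    ∃ s : ∀ i, T i, ∀ (i j : ℤ) (h : i + 1 = j), Q i j h (s i) (s j) := by
  choose up hu using hup
  refine ⟨fun i ↦ Int.inductionOn' i b (dn b le_rfl) (fun k _ t ↦ up k (k + 1) rfl t)
    (fun k hk _ ↦ dn (k - 1) (by lia)), ?_⟩
  intro i j h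
  by_cases hi : j ≤ b
  · exact hdn i j h hi _ _
  · obtain rfl : j = i + 1 := by lia
    dsimp only
    rw [Int.inductionOn'_add_one (show b ≤ i by lia)]
    exact hu _ _ _ _

variable {R : Type u} [CommRing R] {C : Type v} [Category.{w} C] [Abelian C] (us : C ⥤ ModuleCat.{u} R) [us.Additive]
  [us.Faithful]

/-- factorization through a monomorphism, tested on elements -/
lemma exists_factor {X Y N : C} (u : X ⟶ N) (a : Y ⟶ N) [Mono a]
    (h : ∀ x : us.obj X, ∃ y : us.obj Y, (us.map a).hom y = (us.map u).hom x) : ∃ l : X ⟶ Y, l ≫ a = u := by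
  have h1 : u ≫ cokernel.π a = 0 := by
    apply us.map_injective
    ext x
    obtain ⟨y, hy⟩ := h x
    have h2 : us.map a ≫ us.map (cokernel.π a) = 0 := by
      rw [← us.map_comp, cokernel.condition, us.map_zero]
    have h3 := congrArg (fun g => g.hom y) h2
    have h4 : (us.map (cokernel.π a)).hom ((us.map a).hom y) = 0 := h3
    rw [us.map_comp, us.map_zero, ModuleCat.comp_apply]
    rw [hy] at h4
    exact h4
  exact ⟨Abelian.monoLift a u h1, Abelian.monoLift_comp a u h1⟩

/-- a finitely generated subobject containing a finite set -/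
structure FP (N : C) (s : Finset (us.obj N)) where
  X : C
  a : X ⟶ N
  mono : Mono a
  fin : Module.Finite R (us.obj X)
  mem : ∀ x ∈ s, ∃ y, (us.map a).hom y = x

/-- **finitely generated subcomplexes** containing given finite sets -/
theorem exists_fg_subcomplex (hF : LocFin us) (P : CochainComplex C ℤ) (hP : Bdd P)
    (s : ∀ i, Finset (us.obj (P.X i))) :
    ∃ (M : CochainComplex C ℤ) (j : M ⟶ P), Bdd M ∧ (∀ i, Module.Finite R (us.obj (M.X i))) ∧ (∀ i, Mono (j.f i)) ∧
      ∀ i, ∀ x ∈ s i, ∃ y, (us.map (j.f i)).hom y = x := by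
  classical
  rw [bdd_iff] at hP
  obtain ⟨a, b, hab⟩ := hP
  have hne : ∀ i (t : Finset (us.obj (P.X i))), Nonempty (FP us (P.X i) t) := by
    intro i t
    obtain ⟨X, j, h1, h2, h3⟩ := hF (P.X i) t
    exact ⟨⟨X, j, h1, h2, h3⟩⟩
  obtain ⟨S, hS⟩ := exists_asc (T := fun i => FP us (P.X i) (s i))
    (fun i j _ S T => ∃ l : S.X ⟶ T.X, l ≫ T.a = S.a ≫ P.d i j) a (fun i _ => (hne i (s i)).some)
    (fun i j h hj S T => ⟨0, by rw [zero_comp, (hab i (Or.inl (by omega))).eq_of_tgt S.a 0, zero_comp]⟩)
    (fun i j h S => by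
      have hfin := S.fin
      obtain ⟨g, hg⟩ := (Module.Finite.fg_top : (⊤ : Submodule R (us.obj S.X)).FG)
      obtain ⟨T⟩ := hne j (s j ∪ g.image (us.map (S.a ≫ P.d i j)).hom)
      have hT := T.mono
      refine ⟨⟨T.X, T.a, T.mono, T.fin, fun x hx => T.mem x (Finset.mem_union_left _ hx)⟩, ?_⟩
      refine exists_factor us (S.a ≫ P.d i j) T.a fun x => ?_
      have hx : x ∈ (⊤ : Submodule R (us.obj S.X)) := trivial
      rw [← hg] at hx
      have hle : Submodule.span R (g : Set (us.obj S.X)) ≤
          (LinearMap.range (us.map T.a).hom).comap (us.map (S.a ≫ P.d i j)).hom :=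
        Submodule.span_le.2 fun y hy => T.mem _ (Finset.mem_union_right _ (Finset.mem_image_of_mem _ hy))
      exact hle hx)
  have hl : ∀ i j, ∃ l : (S i).X ⟶ (S j).X, l ≫ (S j).a = (S i).a ≫ P.d i j := by
    intro i j
    by_cases h : i + 1 = j
    · exact hS i j h
    · exact ⟨0, by rw [zero_comp, P.shape i j h, comp_zero]⟩
  choose l hl using hl
  have hm : ∀ i, Mono (S i).a := fun i => (S i).mono
  let M : CochainComplex C ℤ :=
    { X := fun i => (S i).X
      d := l
      shape := fun i j h => by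
        rw [← cancel_mono (S j).a, hl, P.shape i j h, comp_zero, zero_comp]
      d_comp_d' := fun i j k _ _ => by
        rw [← cancel_mono (S k).a, Category.assoc, hl, ← Category.assoc, hl, Category.assoc, P.d_comp_d, comp_zero,
          zero_comp] }
  refine ⟨M, { f := fun i => (S i).a, comm' := fun i j _ => (hl i j).symm }, ?_, fun i => (S i).fin, hm,
    fun i => (S i).mem⟩
  rw [bdd_iff]
  exact ⟨a, b, fun i hi => IsZero.of_mono (S i).a (hab i hi)⟩

end Groth.Agent.ResProp.EF.K353
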