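import Groth.Agent.ResProp.EF.K353.Loc
import Mathlib.Algebra.Homology.HomotopyCategory.MappingCocone

/-!
# The context of OverZ for complexes of `C`
-/

set_option autoImplicit false
set_option backward.defeqAttrib.useBackward true
set_option backward.isDefEq.respectTransparency false

universe w v u

open CategoryTheory CategoryTheory.Limits CategoryTheory.Pretriangulated HomologicalComplex

namespace Groth.Agent.ResProp.EF.K353

open Groth.Agent.ResProp.EF.K294 Groth.Agent.PerfB.RingKFlat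

section bdd

variable {C : Type v} [Category.{w} C] [Abelian C]

lemma bdd_iff (Y : CochainComplex C ℤ) : Bdd Y ↔ ∃ a b : ℤ, ∀ i : ℤ, i < a ∨ b < i → IsZero (Y.X i) := by
  constructor
  · rintro ⟨a, b, h1, h2⟩
    rw [CochainComplex.isStrictlyGE_iff] at h1
    rw [CochainComplex.isStrictlyLE_iff] at h2
    exact ⟨a, b, fun i hi => hi.elim (fun h => h1 i h) (fun h => h2 i h)⟩
  · rintro ⟨a, b, h⟩
    refine ⟨a, b, ?_, ?_⟩
    · rw [CochainComplex.isStrictlyGE_iff]
      exact fun i hi => h i (Or.inl hi)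
    · rw [CochainComplex.isStrictlyLE_iff]
      exact fun i hi => h i (Or.inr hi)

lemma Bdd.mappingCone {Y Y' : CochainComplex C ℤ} (f : Y ⟶ Y') (h : Bdd Y) (h' : Bdd Y') :
    Bdd (CochainComplex.mappingCone f) := by
  rw [bdd_iff] at *
  obtain ⟨a, b, h⟩ := h
  obtain ⟨a', b', h'⟩ := h'
  refine ⟨min (a - 1) a', max b b', fun i hi => ?_⟩
  rw [CochainComplex.mappingCone.isZero_X_iff]
  rcases hi with hi | hi
  · rw [lt_min_iff] at hi
    exact ⟨h _ (Or.inl (by omega)), h' _ (Or.inl (by omega))⟩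
  · rw [max_lt_iff] at hi
    exact ⟨h _ (Or.inr (by omega)), h' _ (Or.inr (by omega))⟩

lemma Bdd.shift {Y : CochainComplex C ℤ} (h : Bdd Y) (n : ℤ) : Bdd (Y⟦n⟧) := by
  rw [bdd_iff] at *
  obtain ⟨a, b, h⟩ := h
  refine ⟨a - n, b - n, fun i hi => ?_⟩
  exact h (i + n) (by omega)

lemma Bdd.mappingCocone {Y Y' : CochainComplex C ℤ} (f : Y ⟶ Y') (h : Bdd Y) (h' : Bdd Y') :
    Bdd (CochainComplex.mappingCocone f) := (Bdd.mappingCone f h h').shift (-1)

/-- the distinguished triangle of the mapping cocone -/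
lemma dist_cocone {Y Y' : CochainComplex C ℤ} (f : Y ⟶ Y') :
    ∃ e, Dist ((qq C).map (CochainComplex.mappingCocone.fst f)) ((qq C).map f) e := by
  have h1 : (qq C).mapTriangle.obj (CochainComplex.mappingCocone.triangle f) ∈ distTriang (KK C) := by
    rw [rotate_distinguished_triangle]
    refine isomorphic_distinguished _ (HomotopyCategory.mappingCone_triangleh_distinguished f) _ ?_
    exact ((qq C).mapTriangleRotateIso.app _) ≪≫
      (qq C).mapTriangle.mapIso (CochainComplex.mappingCocone.rotateTriangleIso f)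
  exact ⟨_, h1⟩

lemma dist_cone {Y Y' : CochainComplex C ℤ} (f : Y ⟶ Y') :
    ∃ e, Dist ((qq C).map f) ((qq C).map (CochainComplex.mappingCone.inr f)) e :=
  ⟨_, HomotopyCategory.mappingCone_triangleh_distinguished f⟩

end bdd

section ctx

variable {R : Type u} [CommRing R] {C : Type v} [Category.{w} C] [Abelian C] (us : C ⥤ ModuleCat.{u} R) [us.Additive]

/-- numbers in `S` are invertible on all terms -/
def SLoc (S : Set ℕ) (Y : CochainComplex C ℤ) : Prop := ∀ n ∈ S, ∀ i : ℤ, IsIso ((n : ℤ) • 𝟙 (Y.X i))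

lemma qloc_iff (q : ℕ) (Y : CochainComplex C ℤ) : QLoc q Y ↔ SLoc (Ctx.Sq q) Y :=
  ⟨fun h n hn i => h i n hn, fun h i n hn => h n hn i⟩

lemma SLoc.isIso {S : Set ℕ} {Y : CochainComplex C ℤ} (h : SLoc S Y) {n : ℕ} (hn : n ∈ S) :
    IsIso ((n : ℤ) • 𝟙 Y) := by
  have : ∀ i, IsIso (((n : ℤ) • 𝟙 Y : Y ⟶ Y).f i) := fun i => by
    have := h n hn i
    exact this
  exact HomologicalComplex.Hom.isIso_of_components _

lemma SLoc.bij {S : Set ℕ} {Y : CochainComplex C ℤ} (h : SLoc S Y) {n : ℕ} (hn : n ∈ S)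
    (G : CochainComplex C ℤ ⥤ ModuleCat.{u} R) [G.Additive] : Function.Bijective (fun x : G.obj Y => n • x) := by
  have := h.isIso hn
  have h1 : G.map ((n : ℤ) • 𝟙 Y) = (n : ℤ) • 𝟙 (G.obj Y) := by rw [G.map_zsmul, G.map_id]
  have h2 : IsIso ((n : ℤ) • 𝟙 (G.obj Y)) := by rw [← h1]; infer_instance
  have h3 := (ConcreteCategory.isIso_iff_bijective _).1 h2
  convert h3 using 1
  funext x
  rw [← natCast_zsmul]
  rfl

instance hh_additive (L : CM R) (j : ℤ) : (hh us L j).Additive := by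
  infer_instance

/-- the context -/
noncomputable def ctx : Ctx.{w, max v w, u, u + 1} (KK C) where
  Λ := {L : CM R // IsTest L}
  F l := FH us l.1
  Fd q l := FH us (dv q l.1)
  div1 q l X i j hij h x hx := div1 ((vC us).obj X.as) l.1 q hij h x hx
  div2 q l X i j hij h₁ h₂ x := div2 ((vC us).obj X.as) l.1 q hij h₁ h₂ x
  Bd X := Bdd X.as
  cone {A B} f hA hB := by
    obtain ⟨f', rfl⟩ := (qq C).map_surjective (X := A.as) (Y := B.as) f
    obtain ⟨e, he⟩ := dist_cone f'
    exact ⟨_, _, e, he, hA.mappingCone f' hB⟩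
  fib {A B} f hA hB := by
    obtain ⟨f', rfl⟩ := (qq C).map_surjective (X := A.as) (Y := B.as) f
    obtain ⟨e, he⟩ := dist_cocone f'
    exact ⟨_, _, e, he, hA.mappingCocone f' hB⟩
  SL S X := SLoc S X.as
  sl {S X} h n hn l i := h.bij hn (hh us l.1 i)

end ctx

section loc

variable {R : Type u} [CommRing R] {C : Type v} [Category.{w} C] [Abelian C] (us : C ⥤ ModuleCat.{u} R) [us.Additive]

/-- `- ⊗ L` commutes with sequential colimits -/
instance tensR_preserves (L : CM R) : PreservesColimitsOfShape ℕ (tensR L) := by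
  have h1 : ∀ M : ModuleCat.{u} R, PreservesColimitsOfShape ℕ ((TR R).flip.obj M) := fun M =>
    preservesColimitsOfShape_of_natIso (BraidedCategory.tensorLeftIsoTensorRight M)
  exact Groth.Agent.Dcoh.KFlatAbs.preservesColimitsOfShape_flip_obj (TR R) ℕ L

variable [HasColimitsOfShape ℕ C] [PreservesColimitsOfShape ℕ us]

instance hh_preserves (L : CM R) (j : ℤ) : PreservesColimitsOfShape ℕ (hh us L j) := by
  have := hasExactColimitsOfShape_nat R
  infer_instance

variable [us.Faithful] [us.ReflectsIsomorphisms]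

include us in
/-- **localizations exist** -/
lemma exists_loc {s : ℕ → ℕ} {S : Set ℕ} (hs : Adm s S) {Y : CochainComplex C ℤ} (hY : Bdd Y) :
    ∃ (Y' : CochainComplex C ℤ) (f : Y ⟶ Y'), Bdd Y' ∧ SLoc S Y' ∧
      ∀ (G : CochainComplex C ℤ ⥤ ModuleCat.{u} R) [G.Additive] [PreservesColimitsOfShape ℕ G],
        (∀ x : G.obj Y, (G.map f).hom x = 0 → ∃ n ∈ S, (n : ℕ) • x = 0) ∧
        (∀ y : G.obj Y', ∃ n ∈ S, ∃ x, (G.map f).hom x = (n : ℕ) • y) := by
  let c := colimit.cocone (sq s Y)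
  have hc : IsColimit c := colimit.isColimit (sq s Y)
  have hz : ∀ (i : ℤ), IsZero (Y.X i) → IsZero (c.pt.X i) := by
    intro i hi
    rw [IsZero.iff_id_eq_zero]
    apply us.map_injective
    ext x
    obtain ⟨k, y, hy⟩ := exists_rep (eval C (ComplexShape.up ℤ) i ⋙ us) hc x
    have h0 : IsZero (us.obj (Y.X i)) := us.map_isZero hi
    have : Subsingleton (us.obj (Y.X i)) := ModuleCat.subsingleton_of_isZero h0
    have hy0 : y = 0 := Subsingleton.elim (α := us.obj (Y.X i)) _ _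
    have hx : x = 0 := by rw [← hy, hy0, map_zero]
    rw [hx, map_zero, map_zero]
  refine ⟨c.pt, ii c 0, ?_, ?_, fun G _ _ => ⟨fun x hx => sq_ker G hc hs x hx, fun y => sq_im G hc hs y⟩⟩
  · rw [bdd_iff] at *
    obtain ⟨a, b, h⟩ := hY
    exact ⟨a, b, fun i hi => hz i (h i hi)⟩
  · intro n hn i
    have h1 := sq_bij (eval C (ComplexShape.up ℤ) i ⋙ us) hc hs hn
    have h2 : us.map ((n : ℤ) • 𝟙 (c.pt.X i)) = (n : ℤ) • 𝟙 _ := by rw [us.map_zsmul, us.map_id]
    have h3 : IsIso (us.map ((n : ℤ) • 𝟙 (c.pt.X i))) := by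
      rw [ConcreteCategory.isIso_iff_bijective, h2]
      have h5 : (fun x : us.obj (c.pt.X i) => n • x) = fun x => (n : ℤ) • x := by
        funext x
        rw [natCast_zsmul]
      have h6 : Function.Bijective (fun x : us.obj (c.pt.X i) => (n : ℤ) • x) := h5 ▸ h1
      exact h6
    exact isIso_of_reflects_iso _ us

omit [HasColimitsOfShape ℕ C] [PreservesColimitsOfShape ℕ us] [us.Faithful] [us.ReflectsIsomorphisms] in
lemma hasL_aux {S : Set ℕ} {Y Y' : CochainComplex C ℤ} (f : Y ⟶ Y') (L : CM R) (i : ℤ)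
    (h : (∀ x : (hh us L i).obj Y, ((hh us L i).map f).hom x = 0 → ∃ n ∈ S, (n : ℕ) • x = 0) ∧
        (∀ y : (hh us L i).obj Y', ∃ n ∈ S, ∃ x, ((hh us L i).map f).hom x = (n : ℕ) • y)) :
    (∀ x : (FH us L).M i ((qq C).obj Y), (FH us L).map i ((qq C).map f) x = 0 → ∃ n ∈ S, (n : ℕ) • x = 0) ∧
    (∀ y : (FH us L).M i ((qq C).obj Y'), ∃ n ∈ S, ∃ x, (FH us L).map i ((qq C).map f) x = (n : ℕ) • y) := by
  constructor
  · intro x hx
    obtain ⟨x, rfl⟩ := (tF us L i Y).surjective x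
    rw [tF_map, EmbeddingLike.map_eq_zero_iff] at hx
    obtain ⟨n, hn, h0⟩ := h.1 x hx
    exact ⟨n, hn, by rw [← map_nsmul, h0, map_zero]⟩
  · intro y
    obtain ⟨y, rfl⟩ := (tF us L i Y').surjective y
    obtain ⟨n, hn, x, hx⟩ := h.2 y
    exact ⟨n, hn, tF us L i Y x, by rw [tF_map, hx, map_nsmul]⟩

lemma hasL {s : ℕ → ℕ} {S : Set ℕ} (hs : Adm s S) : (ctx us).HasL S := by
  intro K hK
  obtain ⟨Y', f, h1, h2, h3⟩ := exists_loc us hs (Y := K.as) hK
  exact ⟨(qq C).obj Y', (qq C).map f, h1, h2, fun l i => hasL_aux us f l.1 i (h3 (hh us l.1 i))⟩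

end loc

end Groth.Agent.ResProp.EF.K353
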