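import Groth.Agent.ResProp.EF.K353.Inst

/-!
# OverZ at a point of characteristic `p`
-/

set_option autoImplicit false
set_option backward.defeqAttrib.useBackward true
set_option backward.isDefEq.respectTransparency false

universe w v u

open CategoryTheory CategoryTheory.Limits CategoryTheory.Pretriangulated HomologicalComplex

namespace Groth.Agent.ResProp.EF.K353

open Groth.Agent.ResProp.EF.K294 Groth.Agent.PerfB.RingKFlat

variable {R : Type u} [CommRing R] {C : Type v} [Category.{w} C] [Abelian C] (us : C ⥤ ModuleCat.{u} R) [us.Additive]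

lemma exactAt_iff_forall (K : CM R) (i : ℤ) : K.ExactAt i ↔ ∀ x : K.homology i, x = 0 := by
  rw [exactAt_iff_isZero_homology]
  constructor
  · intro h x
    have := ModuleCat.subsingleton_of_isZero h
    exact Subsingleton.elim _ _
  · intro h
    have : Subsingleton (K.homology i) := ⟨fun x y => (h x).trans (h y).symm⟩
    exact ModuleCat.isZero_of_subsingleton _

/-- the abstract and the concrete Tor bounds -/
lemma tge_iff (a : ℤ) (Y : CochainComplex C ℤ) : (ctx us).TGE a ((qq C).obj Y) ↔ TorGE a ((vC us).obj Y) :=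
  ⟨fun h L hL i hi => (exactAt_iff_forall _ _).2 (h ⟨L, hL⟩ i hi),
    fun h l i hi => (exactAt_iff_forall _ _).1 (h l.1 l.2 i hi)⟩

/-- the abstract hits -/
lemma hq_abs {L : CM R} {j : ℤ} {q : ℕ} (h : Hq us L j q) : (ctx us).Hq (FH us L) j q := by
  intro Y hY hS y
  obtain ⟨y, rfl⟩ := (tF us L j Y.as).surjective y
  obtain ⟨K, f, t, a, h1, h2, h3, h4⟩ := h Y.as hY ((qloc_iff q _).2 hS) y
  refine ⟨(qq C).obj K, (qq C).map f, tF us L j K t, a, h1, (tge_iff us a K).2 h2, (qloc_iff q _).1 h3, ?_⟩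
  rw [← h4]
  exact tF_map us L j f t

/-- the concrete hits -/
lemma hit_of_abs {L : CM R} {j : ℤ} {Y : CochainComplex C ℤ} {y : (hh us L j).obj Y}
    (h : (ctx us).HitBy (FH us L) j (fun _ => True) ((qq C).obj Y) (tF us L j Y y)) :
    HitBy us L j (fun _ => True) Y y := by
  obtain ⟨K, f, t, a, h1, h2, -, h4⟩ := h
  obtain ⟨f, rfl⟩ := (qq C).map_surjective (X := K.as) (Y := Y) f
  obtain ⟨t, rfl⟩ := (tF us L j K.as).surjective t
  refine ⟨K.as, f, t, a, h1, (tge_iff us a K.as).1 h2, trivial, (tF us L j Y).injective ?_⟩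
  rw [← h4]
  exact (tF_map us L j f t).symm

lemma CharP.smul {p : ℕ} {L : CM R} (hL : CharP p L) (j : ℤ) (Y : CochainComplex C ℤ) (x : (hh us L j).obj Y) :
    p • x = 0 := by
  have h1 : ∀ z : (tens ((vC us).obj Y) L).homology j, p • z = 0 := fun z => by
    rw [← natCast_zsmul]
    exact hL _ _ z
  exact h1 x

variable [HasColimitsOfShape ℕ C] [PreservesColimitsOfShape ℕ us] [us.Faithful] [us.ReflectsIsomorphisms]

/-- **OverZ at a point of characteristic `p`** -/
theorem stmtOverZp : StmtOverZp us := by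
  intro L j p hp _ hL h Y hY y
  refine hit_of_abs us (Ctx.overZp hp (hasL us (adm_Sq hp)) (hasL us (adm_Sp p)) (hq_abs us h) ?_ hY _)
  intro K hK x
  have hK' : SLoc (Ctx.Sp p) K.as := hK
  obtain ⟨x, rfl⟩ := (tF us L j K.as).surjective x
  have h1 := hK'.bij (n := p) ⟨1, (pow_one p).symm⟩ (hh us L j)
  have h2 : x = 0 := by
    refine h1.1 ?_
    change p • x = p • (0 : (hh us L j).obj K.as)
    rw [smul_zero, hL.smul us j K.as x]
  rw [h2, map_zero]

end Groth.Agent.ResProp.EF.K353
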