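import Groth.Agent.ResProp.EF.K353.Fg
import Groth.Agent.ResProp.EF.K353.OverZp

/-!
# OverZ at a point of characteristic `0`
-/

set_option autoImplicit false
set_option backward.defeqAttrib.useBackward true
set_option backward.isDefEq.respectTransparency false

universe w v u

open CategoryTheory CategoryTheory.Limits HomologicalComplex

namespace Groth.Agent.ResProp.EF.K353

open Groth.Agent.ResProp.EF.K294

variable {R : Type u} [CommRing R] {C : Type v} [Category.{w} C] [Abelian C] (us : C ⥤ ModuleCat.{u} R) [us.Additive]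

/-- elements of a fibre product of modules -/
lemma exists_pb_elt {P A B D : ModuleCat.{u} R} {fst : P ⟶ A} {snd : P ⟶ B} {f : A ⟶ D} {g : B ⟶ D}
    (h : IsPullback fst snd f g) (a : A) (b : B) (hab : f.hom a = g.hom b) : ∃ p : P, fst.hom p = a ∧ snd.hom p = b := by
  let u : ModuleCat.of R (ULift.{u} R) ⟶ A :=
    ModuleCat.ofHom ((LinearMap.toSpanSingleton R A a).comp (ULift.moduleEquiv (R := R) (M := R)).toLinearMap)
  let v : ModuleCat.of R (ULift.{u} R) ⟶ B :=
    ModuleCat.ofHom ((LinearMap.toSpanSingleton R B b).comp (ULift.moduleEquiv (R := R) (M := R)).toLinearMap)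
  have huv : u ≫ f = v ≫ g := by
    ext ⟨r⟩
    change f.hom (r • a) = g.hom (r • b)
    rw [map_smul, map_smul, hab]
  refine ⟨(h.lift u v huv).hom ⟨1⟩, ?_, ?_⟩
  · have h1 := congrArg (fun k => k.hom (⟨1⟩ : ULift.{u} R)) (h.lift_fst u v huv)
    have h2 : u.hom (⟨1⟩ : ULift.{u} R) = a := one_smul R a
    exact Eq.trans h1 h2
  · have h1 := congrArg (fun k => k.hom (⟨1⟩ : ULift.{u} R)) (h.lift_snd u v huv)
    have h2 : v.hom (⟨1⟩ : ULift.{u} R) = b := one_smul R b
    exact Eq.trans h1 h2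

lemma eq_zero_of_pb {P A B D : ModuleCat.{u} R} {fst : P ⟶ A} {snd : P ⟶ B} {f : A ⟶ D} {g : B ⟶ D}
    (h : IsPullback fst snd f g) (p : P) (h1 : fst.hom p = 0) (h2 : snd.hom p = 0) : p = 0 := by
  let u : ModuleCat.of R (ULift.{u} R) ⟶ P :=
    ModuleCat.ofHom ((LinearMap.toSpanSingleton R P p).comp (ULift.moduleEquiv (R := R) (M := R)).toLinearMap)
  have hu : u = 0 := by
    refine h.hom_ext ?_ ?_
    · ext ⟨r⟩
      change fst.hom (r • p) = fst.hom 0
      rw [map_smul, h1, smul_zero, map_zero]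
    · ext ⟨r⟩
      change snd.hom (r • p) = snd.hom 0
      rw [map_smul, h2, smul_zero, map_zero]
  have h3 : u.hom (⟨1⟩ : ULift.{u} R) = p := one_smul R p
  rw [← h3, hu]
  rfl

variable [us.Faithful] [PreservesFiniteLimits us]

/-- the finitely generated complex over a localization: `ℓ : Z ⟶ Z'` an isomorphism up to `S`-torsion, `g : T ⟶ Z'`,
`T` finitely generated over `S⁻¹ R` -/
theorem exists_fg_model (hF : LocFin us) {S : Set ℕ} (hS : ∀ m ∈ S, ∀ n ∈ S, m * n ∈ S)
    {Z Z' T : CochainComplex C ℤ} (ℓ : Z ⟶ Z') (g : T ⟶ Z') (hZ : Bdd Z) (hT : Bdd T)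
    (hℓ : ∀ i, EqS S us (ℓ.f i))
    (hfg : ∀ i, ∃ s : Finset (us.obj (T.X i)), ∀ x : us.obj (T.X i),
      ∃ n ∈ S, n • x ∈ Submodule.span R (s : Set (us.obj (T.X i)))) :
    ∃ (M : CochainComplex C ℤ) (α : M ⟶ Z) (β : M ⟶ T), Bdd M ∧ (∀ i, Module.Finite R (us.obj (M.X i))) ∧
      α ≫ ℓ = β ≫ g ∧ ∀ i, EqS S us (β.f i) := by
  classical
  let P := pullback ℓ g
  have hpb : ∀ i, IsPullback (us.map ((pullback.fst ℓ g).f i)) (us.map ((pullback.snd ℓ g).f i)) (us.map (ℓ.f i))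
      (us.map (g.f i)) := fun i => ((IsPullback.of_hasPullback ℓ g).map (eval C (ComplexShape.up ℤ) i)).map us
  have hP : Bdd P := by
    rw [bdd_iff] at *
    obtain ⟨a, b, hZ⟩ := hZ
    obtain ⟨a', b', hT⟩ := hT
    refine ⟨min a a', max b b', fun i hi => ?_⟩
    have h1 : IsZero (Z.X i) := hZ i (by rcases hi with hi | hi <;> [rw [lt_min_iff] at hi; rw [max_lt_iff] at hi] <;> omega)
    have h2 : IsZero (T.X i) := hT i (by rcases hi with hi | hi <;> [rw [lt_min_iff] at hi; rw [max_lt_iff] at hi] <;> omega)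
    rw [IsZero.iff_id_eq_zero]
    have h3 := (IsPullback.of_hasPullback ℓ g).map (eval C (ComplexShape.up ℤ) i)
    exact h3.hom_ext (h1.eq_of_tgt _ _) (h2.eq_of_tgt _ _)
  choose s hs using hfg
  -- lifts of multiples of the generators
  have hlift : ∀ i (t : us.obj (T.X i)), ∃ (p : us.obj (P.X i)), ∃ n ∈ S,
      (us.map ((pullback.snd ℓ g).f i)).hom p = n • t := by
    intro i t
    obtain ⟨n, hn, z, hz⟩ := (hℓ i).2 ((us.map (g.f i)).hom t)
    obtain ⟨p, -, hp⟩ := exists_pb_elt (hpb i) z (n • t) (by rw [hz, map_nsmul])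
    exact ⟨p, n, hn, hp⟩
  choose pl nl hnl hpl using hlift
  obtain ⟨M, j, hM, hfin, hmono, hmem⟩ := exists_fg_subcomplex us hF P hP (fun i => (s i).image (pl i))
  refine ⟨M, j ≫ pullback.fst ℓ g, j ≫ pullback.snd ℓ g, hM, hfin, ?_, fun i => ⟨fun x hx => ?_, fun y => ?_⟩⟩
  · rw [Category.assoc, pullback.condition, Category.assoc]
  · have hx' : (us.map ((pullback.snd ℓ g).f i)).hom ((us.map (j.f i)).hom x) = 0 := by
      rw [← ModuleCat.comp_apply, ← us.map_comp]
      exact hx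
    have h1 : (us.map (ℓ.f i)).hom ((us.map ((pullback.fst ℓ g).f i)).hom ((us.map (j.f i)).hom x)) = 0 := by
      have h2 := congrArg (fun k => k.hom ((us.map (j.f i)).hom x)) (hpb i).w
      have h3 : (us.map (ℓ.f i)).hom ((us.map ((pullback.fst ℓ g).f i)).hom ((us.map (j.f i)).hom x)) =
          (us.map (g.f i)).hom ((us.map ((pullback.snd ℓ g).f i)).hom ((us.map (j.f i)).hom x)) := h2
      rw [h3, hx', map_zero]
    obtain ⟨n, hn, h0⟩ := (hℓ i).1 _ h1
    refine ⟨n, hn, ?_⟩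
    have h4 : (us.map (j.f i)).hom (n • x) = 0 :=
      eq_zero_of_pb (hpb i) _ (by rw [map_nsmul, map_nsmul, h0]) (by rw [map_nsmul, map_nsmul, hx', smul_zero])
    have := hmono i
    exact (ModuleCat.mono_iff_injective (us.map (j.f i))).1 inferInstance (h4.trans (map_zero _).symm)
  · obtain ⟨n, hn, hy⟩ := hs i y
    let f := (us.map ((j ≫ pullback.snd ℓ g).f i)).hom
    have key : ∀ y ∈ Submodule.span R (s i : Set (us.obj (T.X i))), ∃ m ∈ S, ∃ x, f x = m • y := by
      intro y hy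
      induction hy using Submodule.span_induction with
      | mem t ht =>
        obtain ⟨x, hx⟩ := hmem i (pl i t) (Finset.mem_image_of_mem _ ht)
        refine ⟨nl i t, hnl i t, x, ?_⟩
        rw [← hpl i t, ← hx, ← ModuleCat.comp_apply, ← us.map_comp]
        rfl
      | zero => exact ⟨n, hn, 0, by rw [map_zero, smul_zero]⟩
      | add y z _ _ hy hz =>
        obtain ⟨m, hm, x, hx⟩ := hy
        obtain ⟨m', hm', x', hx'⟩ := hz
        refine ⟨m * m', hS m hm m' hm', m' • x + m • x', ?_⟩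
        rw [map_add, map_nsmul, map_nsmul, hx, hx', smul_add, smul_smul, smul_smul, mul_comm m' m]
      | smul r y _ hy =>
        obtain ⟨m, hm, x, hx⟩ := hy
        exact ⟨m, hm, r • x, by rw [map_smul, hx, smul_comm]⟩
    obtain ⟨m, hm, x, hx⟩ := key _ hy
    exact ⟨m * n, hS m hm n hn, x, by rw [mul_smul]; exact hx⟩

section final

variable {us}

omit [us.Additive] [us.Faithful] [PreservesFiniteLimits us] in
lemma Char0.bij {L : CM R} (hL : Char0 L) (K : CM R) (i : ℤ) {n : ℕ} (hn : n ≠ 0) :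
    Function.Bijective (fun x : (tens K L).homology i => n • x) := by
  have h := hL n hn K i
  have h5 : (fun x : (tens K L).homology i => (n : ℤ) • x) = fun x => n • x := by
    funext x
    rw [natCast_zsmul]
  exact h5 ▸ h

end final

omit [us.Faithful] [PreservesFiniteLimits us] in
lemma tor_of_hh {S : Set ℕ} {L : CM R} {i : ℤ} {M : CochainComplex C ℤ}
    (h : ∀ x : (hh us L i).obj M, ∃ n ∈ S, (n : ℕ) • x = 0) : (FH us L).Tor S i ((qq C).obj M) := by
  intro x
  obtain ⟨x, rfl⟩ := (tF us L i M).surjective x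
  obtain ⟨n, hn, h0⟩ := h x
  exact ⟨n, hn, by rw [← map_nsmul, h0, map_zero]⟩

variable [HasColimitsOfShape ℕ C] [PreservesColimitsOfShape ℕ us] [us.ReflectsIsomorphisms]

/-- **OverZ at a point of characteristic `0`** -/
theorem stmtOverZ0' : StmtOverZ0' us := by
  intro L j p hp hLt hL h hFt hF hSp Y hY y
  refine hit_of_abs us (Ctx.overZ0 (fun q hq => hasL us (adm_Sq hq)) (fun q hq => hq_abs us (h q hq)) _ ?_)
  -- localization at `p`
  obtain ⟨Y', ℓ, hY', hY'S, hℓ⟩ := exists_loc us (adm_Sq hp) hY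
  obtain ⟨T, g, t, a, hT, hTa, ⟨hTS, hTf⟩, hgt⟩ := hFt Y' hY' ((qloc_iff p Y').2 hY'S) (((hh us L j).map ℓ).hom y)
  obtain ⟨M, α, β, hM, hfin, hαβ, hβ⟩ := exists_fg_model us hF (Ctx.mul_Sq (q := p)) ℓ g hY hT
    (fun i => hℓ (eval C (ComplexShape.up ℤ) i ⋙ us)) (fun i => by
      obtain ⟨s, hs⟩ := hTf i
      refine ⟨s, fun x => ?_⟩
      obtain ⟨n, hn, h0⟩ := hs x
      refine ⟨n, hn, ?_⟩
      rw [← natCast_zsmul]
      exact h0)
  have hβ' := fun (G : CochainComplex C ℤ ⥤ ModuleCat.{u} R) [G.Additive] [PreservesColimitsOfShape ℕ G] =>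
    eqS_of_terms us (adm_Sq hp) Ctx.mul_Sq β hβ G
  -- the element
  have h1 : ∀ (Z : CochainComplex C ℤ) {n : ℕ} (hn : n ∈ Ctx.Sq p), Function.Bijective
      (fun x : (hh us L j).obj Z => n • x) := fun Z n hn =>
    hL.bij ((vC us).obj Z) j (Ctx.ne_zero_of_mem_Sq hp hn)
  obtain ⟨n, hn, m', hm'⟩ := (hβ' (hh us L j)).2 t
  obtain ⟨m, hm⟩ := (h1 M hn).2 m'
  have hm2 : n • m = m' := hm
  have hβm : ((hh us L j).map β).hom m = t := by
    refine (h1 T hn).1 ?_
    change n • _ = n • _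
    rw [← map_nsmul, hm2, hm']
  have hαm : ((hh us L j).map α).hom m = y := by
    have h2 : ((hh us L j).map ℓ).hom (((hh us L j).map α).hom m) = ((hh us L j).map g).hom
        (((hh us L j).map β).hom m) := by
      rw [← ModuleCat.comp_apply, ← ModuleCat.comp_apply, ← Functor.map_comp, ← Functor.map_comp, hαβ]
    have h3 : ((hh us L j).map ℓ).hom (((hh us L j).map α).hom m - y) = 0 := by
      rw [map_sub, h2, hβm, hgt, sub_self]
    obtain ⟨n', hn', h4⟩ := (hℓ (hh us L j)).1 _ h3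
    have h5 : ((hh us L j).map α).hom m - y = 0 := by
      refine (h1 Y hn').1 ?_
      change n' • _ = n' • (0 : (hh us L j).obj Y)
      rw [h4, smul_zero]
    exact sub_eq_zero.1 h5
  -- spreading out
  have hMb : Bdd ((vC us).obj M) := by
    rw [bdd_iff] at hM ⊢
    obtain ⟨c, d, hcd⟩ := hM
    exact ⟨c, d, fun i hi => us.map_isZero (hcd i hi)⟩
  obtain ⟨n, b, hn, hnb⟩ := hSp ((vC us).obj M) a hMb hfin (fun L' hL' i hi x => by
    have h6 : ((hh us L' i).map β).hom x = 0 := (exactAt_iff_forall _ _).1 (hTa L' hL' i hi) _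
    obtain ⟨k, hk, h7⟩ := (hβ' (hh us L' i)).1 x h6
    refine ⟨k, Ctx.ne_zero_of_mem_Sq hp hk, ?_⟩
    rw [natCast_zsmul]
    exact h7)
  refine ⟨(qq C).obj M, (qq C).map α, tF us L j M m, n, b - 1, hn, hM, ?_, ?_⟩
  · rw [tF_map, hαm]
  · intro q hq hqn
    refine Ctx.tq_of_tor (S := Ctx.Sp n) ?_ (fun l i hi => tor_of_hh us (fun x => ?_))
    · rintro _ ⟨k, rfl⟩
      exact Nat.Coprime.pow_left k ((Nat.Prime.coprime_iff_not_dvd hq).2 hqn).symm
    · obtain ⟨k, hk⟩ := hnb l.1 l.2 i hi x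
      refine ⟨n ^ k, ⟨k, rfl⟩, ?_⟩
      have h8 : ((n : ℤ) ^ k) • x = n ^ k • x := by
        rw [← natCast_zsmul, Nat.cast_pow]
      exact h8.symm.trans hk

end Groth.Agent.ResProp.EF.K353

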