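import Groth.Agent.ResProp.EF.K940.OverZ
import Groth.Agent.ResProp.EF.K353.OverZ0

/-!
# `Arch.StmtOverZ`
-/

set_option autoImplicit false

open CategoryTheory CategoryTheory.Limits Opposite

namespace Groth.Agent.ResProp.EF.K353

open EF56 Groth.Agent.ResProp.EF.K940

universe u

/-- **from the rings `ℤ_(p)` to `ℤ`** -/
theorem stmtOverZ : Arch.StmtOverZ.{u} := by
  refine stmtOverZ_of0 fun A _ _ => ?_
  have : HasColimitsOfSize.{0, 0} (Comod A) := hasColimitsOfSizeShrink.{0, 0, u, u} (Comod A)
  have : PreservesColimitsOfSize.{0, 0} (vst A) := (chartF A).adj.leftAdjoint_preservesColimits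
  exact stmtOverZ0' (vst A)

end Groth.Agent.ResProp.EF.K353

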