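import Groth.Agent.ResProp.EF.K353.Coh
import Groth.Agent.Dcoh.HomColim
import Mathlib.Algebra.Category.ModuleCat.FilteredColimits
import Mathlib.CategoryTheory.Limits.ConcreteCategory.Filtered
import Mathlib.CategoryTheory.Limits.Preserves.Filtered

/-!
# Localization of objects of an abelian category at a set of natural numbers, as a sequential colimit
-/

set_option autoImplicit false
set_option backward.defeqAttrib.useBackward true
set_option backward.isDefEq.respectTransparency false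

universe w v u

open CategoryTheory CategoryTheory.Limits HomologicalComplex

namespace Groth.Agent.ResProp.EF.K353

open Groth.Agent.ResProp.EF.K294 Groth.Agent.PerfB.RingKFlat

section seq

variable {D : Type v} [Category.{w} D] [Preadditive D]

/-- `Y → Y → Y → …` with transition maps the multiplications by `s i` -/
def sq (s : ℕ → ℕ) (Y : D) : ℕ ⥤ D where
  obj _ := Y
  map {k l} _ := (∏ i ∈ Finset.Ico k l, s i) • 𝟙 Y
  map_id k := by simp
  map_comp {k l m} f g := by
    rw [Preadditive.nsmul_comp, Preadditive.comp_nsmul, Category.comp_id, smul_smul]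
    congr 1
    exact (Finset.prod_Ico_consecutive s (leOfHom f) (leOfHom g)).symm

variable {R : Type u} [CommRing R] (G : D ⥤ ModuleCat.{u} R) [G.Additive]
  {s : ℕ → ℕ} {Y : D} {c : Cocone (sq s Y)} (hc : IsColimit c)

lemma sq_map {k l : ℕ} (f : k ⟶ l) (y : G.obj Y) :
    ((sq s Y ⋙ G).map f).hom y = (∏ i ∈ Finset.Ico k l, s i) • y := by
  have : (sq s Y ⋙ G).map f = (∏ i ∈ Finset.Ico k l, s i) • 𝟙 (G.obj Y) := by
    change G.map ((∏ i ∈ Finset.Ico k l, s i) • 𝟙 Y) = _
    rw [Functor.map_nsmul, G.map_id]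
  rw [this]
  rfl

/-- the maps to the colimit -/
abbrev ii (c : Cocone (sq s Y)) (k : ℕ) : Y ⟶ c.pt := c.ι.app k

variable (c) in
lemma ι_eq {k l : ℕ} (h : k ≤ l) (y : G.obj Y) :
    (G.map (ii c k)).hom y = (∏ i ∈ Finset.Ico k l, s i) • (G.map (ii c l)).hom y := by
  have h1 := congrArg (fun f => (ModuleCat.Hom.hom f) y) ((G.mapCocone c).w (homOfLE h))
  have h2 : (G.map (ii c l)).hom (((sq s Y ⋙ G).map (homOfLE h)).hom y) = (G.map (ii c k)).hom y := h1
  rw [← h2, sq_map, map_nsmul]

variable [PreservesColimitsOfShape ℕ G]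

include hc

omit [G.Additive] in
lemma exists_rep (x : G.obj c.pt) : ∃ (k : ℕ) (y : G.obj Y), (G.map (ii c k)).hom y = x := by
  have : PreservesFilteredColimitsOfSize.{0, 0} (forget (ModuleCat.{u} R)) :=
    preservesSmallestFilteredColimits_of_preservesFilteredColimits _
  exact Concrete.isColimit_exists_rep (sq s Y ⋙ G) (isColimitOfPreserves G hc) x

lemma rep_zero {k : ℕ} {y : G.obj Y} (h : (G.map (ii c k)).hom y = 0) :
    ∃ l, k ≤ l ∧ (∏ i ∈ Finset.Ico k l, s i) • y = 0 := by
  have : PreservesFilteredColimitsOfSize.{0, 0} (forget (ModuleCat.{u} R)) :=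
    preservesSmallestFilteredColimits_of_preservesFilteredColimits _
  obtain ⟨l, f, g, hk⟩ := Concrete.isColimit_exists_of_rep_eq.{u} (sq s Y ⋙ G) (isColimitOfPreserves G hc)
    (i := k) (j := k) y 0 (by
      change (G.map (ii c k)).hom y = (G.map (ii c k)).hom 0
      rw [h, map_zero])
  refine ⟨l, leOfHom f, ?_⟩
  have h2 : ((sq s Y ⋙ G).map g).hom 0 = 0 := map_zero _
  have h3 : ((sq s Y ⋙ G).map f).hom y = 0 := hk.trans h2
  rwa [sq_map] at h3

omit hc in
variable (s) in
/-- the sequence `s` computes the localization at `S` -/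
structure Adm (s : ℕ → ℕ) (S : Set ℕ) : Prop where
  mem : ∀ k l, (∏ i ∈ Finset.Ico k l, s i) ∈ S
  dvd : ∀ n ∈ S, ∀ k, ∃ l, k ≤ l ∧ n ∣ ∏ i ∈ Finset.Ico k l, s i

variable {S : Set ℕ} (hS : Adm s S)

include hS

lemma sq_bij {n : ℕ} (hn : n ∈ S) : Function.Bijective (fun x : G.obj c.pt => n • x) := by
  constructor
  · have key : ∀ x : G.obj c.pt, n • x = 0 → x = 0 := by
      intro x hx
      obtain ⟨k, y, rfl⟩ := exists_rep G hc x
      rw [← map_nsmul] at hx
      obtain ⟨l, hl, h0⟩ := rep_zero G hc hx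
      obtain ⟨m, hm, r, hr⟩ := hS.dvd n hn l
      rw [ι_eq G c hl, ← map_nsmul, ι_eq G c hm, ← map_nsmul, hr, mul_comm, mul_smul, smul_comm n, h0, smul_zero,
        map_zero]
    intro x x' hxx
    have hxx' : n • x = n • x' := hxx
    have h0 := key (x - x') (by rw [nsmul_sub, hxx', sub_self])
    exact sub_eq_zero.1 h0
  · intro x
    obtain ⟨k, y, rfl⟩ := exists_rep G hc x
    obtain ⟨l, hl, m, hm⟩ := hS.dvd n hn k
    refine ⟨m • (G.map (ii c l)).hom y, ?_⟩
    change n • m • _ = _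
    rw [ι_eq G c hl, hm, mul_smul]

lemma sq_ker (y : G.obj Y) (h : (G.map (ii c 0)).hom y = 0) : ∃ n ∈ S, n • y = 0 := by
  obtain ⟨l, _, hl⟩ := rep_zero G hc h
  exact ⟨_, hS.mem 0 l, hl⟩

lemma sq_im (x : G.obj c.pt) : ∃ n ∈ S, ∃ y, (G.map (ii c 0)).hom y = n • x := by
  obtain ⟨k, y, rfl⟩ := exists_rep G hc x
  exact ⟨_, hS.mem 0 k, y, ι_eq G c (Nat.zero_le k) y⟩

end seq

section adm

/-- the sequence for the localization at the powers of `p` -/
lemma adm_Sp (p : ℕ) : Adm (fun _ => p) (Ctx.Sp p) where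
  mem k l := ⟨l - k, by simp⟩
  dvd := by
    rintro _ ⟨m, rfl⟩ k
    exact ⟨k + m, Nat.le_add_right k m, by simp⟩

/-- the sequence for the localization at the numbers prime to `q` -/
def sS (q : ℕ) : ℕ → ℕ := fun i => if (i + 1).Coprime q then i + 1 else 1

lemma adm_Sq {q : ℕ} (hq : q.Prime) : Adm (sS q) (Ctx.Sq q) where
  mem k l := by
    refine Nat.Coprime.prod_left fun i _ => ?_
    unfold sS
    split_ifs with h
    · exact h
    · exact Nat.coprime_one_left q
  dvd := by
    intro n hn k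
    have hn' : n.Coprime q := hn
    have hn0 : 0 < n := by
      rcases Nat.eq_zero_or_pos n with rfl | h
      · rw [Nat.coprime_zero_left] at hn'
        exact absurd hn' hq.one_lt.ne'
      · exact h
    have h1 : (n * (k * q + 1)).Coprime q := Nat.Coprime.mul_left hn' (by simp)
    have h2 : k + 1 ≤ n * (k * q + 1) := by
      calc k + 1 ≤ k * q + 1 := Nat.succ_le_succ (Nat.le_mul_of_pos_right k hq.pos)
        _ ≤ n * (k * q + 1) := Nat.le_mul_of_pos_left _ hn0
    obtain ⟨i, hi⟩ : ∃ i, i + 1 = n * (k * q + 1) := ⟨n * (k * q + 1) - 1, by omega⟩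
    refine ⟨i + 1, by omega, ?_⟩
    have h3 : sS q i = n * (k * q + 1) := by
      unfold sS
      rw [if_pos (by rw [hi]; exact h1), hi]
    exact (h3 ▸ Dvd.intro _ rfl : n ∣ sS q i).trans (Finset.dvd_prod_of_mem _ (Finset.mem_Ico.2 ⟨by omega, by omega⟩))

end adm

end Groth.Agent.ResProp.EF.K353
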